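import Mathlib
import Cfsg.Prelude

set_option autoImplicit false
set_option linter.unusedSectionVars false
set_option linter.unusedVariables false
open Cfsg

/-! Tensor powers of matrices over the index type `Fin t → Fin k`: pure tensor matrices, local
operators and permutations of the tensor factors; the normal form of the elements of the standard
tensor-wreath subgroup. -/

namespace Cfsg.Agent.Lib.Helper5.SpinWr

open Matrix

section ring
variable {F : Type*} [CommRing F] {k t : ℕ}

/-- the tensor product of a family of `k × k` matrices, acting on the `t`-th tensor power -/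
def T (As : Fin t → Matrix (Fin k) (Fin k) F) : Matrix (Fin t → Fin k) (Fin t → Fin k) F :=
  fun x y => ∏ i, As i (x i) (y i)

theorem T_apply (As : Fin t → Matrix (Fin k) (Fin k) F) (x y : Fin t → Fin k) :
    T As x y = ∏ i, As i (x i) (y i) := rfl

theorem T_one : T (fun _ : Fin t => (1 : Matrix (Fin k) (Fin k) F)) = 1 := by
  ext x y
  rw [T_apply]
  simp only [Matrix.one_apply]
  rw [Finset.prod_boole]
  congr 1
  simp only [Finset.mem_univ, forall_true_left, eq_iff_iff]
  exact ⟨fun h => funext h, fun h i => congrFun h i⟩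

theorem T_mul (As Bs : Fin t → Matrix (Fin k) (Fin k) F) :
    T As * T Bs = T (fun i => As i * Bs i) := by
  ext x y
  rw [Matrix.mul_apply, T_apply]
  simp only [T_apply, Matrix.mul_apply]
  rw [Finset.prod_univ_sum, Fintype.piFinset_univ]
  refine Finset.sum_congr rfl fun z _ => ?_
  rw [Finset.prod_mul_distrib]

theorem T_transpose (As : Fin t → Matrix (Fin k) (Fin k) F) :
    (T As)ᵀ = T (fun i => (As i)ᵀ) := by
  ext x y
  rfl

theorem T_update_apply (As : Fin t → Matrix (Fin k) (Fin k) F) (i : Fin t)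
    (M : Matrix (Fin k) (Fin k) F) (x y : Fin t → Fin k) :
    T (Function.update As i M) x y =
      M (x i) (y i) * ∏ l ∈ Finset.univ.erase i, As l (x l) (y l) := by
  rw [T_apply, ← Finset.mul_prod_erase Finset.univ _ (Finset.mem_univ i), Function.update_self]
  congr 1
  refine Finset.prod_congr rfl fun l hl => ?_
  rw [Function.update_of_ne (Finset.ne_of_mem_erase hl)]

theorem T_update_add (As : Fin t → Matrix (Fin k) (Fin k) F) (i : Fin t)
    (A B : Matrix (Fin k) (Fin k) F) :
    T (Function.update As i (A + B)) =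
      T (Function.update As i A) + T (Function.update As i B) := by
  ext x y
  rw [Matrix.add_apply, T_update_apply, T_update_apply, T_update_apply, Matrix.add_apply, add_mul]

theorem T_update_smul (As : Fin t → Matrix (Fin k) (Fin k) F) (i : Fin t) (c : F)
    (A : Matrix (Fin k) (Fin k) F) :
    T (Function.update As i (c • A)) = c • T (Function.update As i A) := by
  ext x y
  rw [Matrix.smul_apply, T_update_apply, T_update_apply, Matrix.smul_apply, smul_eq_mul,
    smul_eq_mul, mul_assoc]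

theorem T_update_zero (As : Fin t → Matrix (Fin k) (Fin k) F) (i : Fin t) :
    T (Function.update As i 0) = 0 := by
  ext x y
  rw [T_update_apply, Matrix.zero_apply, Matrix.zero_apply, zero_mul]

theorem T_eq_zero_of (As : Fin t → Matrix (Fin k) (Fin k) F) (i : Fin t) (h : As i = 0) :
    T As = 0 := by
  have h1 : As = Function.update As i 0 := by rw [← h, Function.update_eq_self]
  rw [h1, T_update_zero]

/-- the operator acting as `A` on the `i`-th tensor factor and as the identity on the others -/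
def loc (i : Fin t) (A : Matrix (Fin k) (Fin k) F) :
    Matrix (Fin t → Fin k) (Fin t → Fin k) F :=
  T (Function.update (fun _ => (1 : Matrix (Fin k) (Fin k) F)) i A)

theorem loc_def (i : Fin t) (A : Matrix (Fin k) (Fin k) F) :
    loc i A = T (Function.update (fun _ => (1 : Matrix (Fin k) (Fin k) F)) i A) := rfl

theorem loc_one (i : Fin t) : loc i (1 : Matrix (Fin k) (Fin k) F) = 1 := by
  have h : Function.update (fun _ : Fin t => (1 : Matrix (Fin k) (Fin k) F)) i 1 = fun _ => 1 :=
    Function.update_eq_self i _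
  rw [loc_def, h, T_one]

theorem loc_add (i : Fin t) (A B : Matrix (Fin k) (Fin k) F) :
    loc i (A + B) = loc i A + loc i B := T_update_add _ i A B

theorem loc_smul (i : Fin t) (c : F) (A : Matrix (Fin k) (Fin k) F) :
    loc i (c • A) = c • loc i A := T_update_smul _ i c A

theorem loc_zero (i : Fin t) : loc i (0 : Matrix (Fin k) (Fin k) F) = 0 := T_update_zero _ i

theorem T_mul_loc (As : Fin t → Matrix (Fin k) (Fin k) F) (i : Fin t)
    (A : Matrix (Fin k) (Fin k) F) :
    T As * loc i A = T (Function.update As i (As i * A)) := by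
  rw [loc_def, T_mul]
  congr 1
  funext l
  by_cases h : l = i
  · subst h
    rw [Function.update_self, Function.update_self]
  · rw [Function.update_of_ne h, Function.update_of_ne h, Matrix.mul_one]

theorem loc_mul_T (As : Fin t → Matrix (Fin k) (Fin k) F) (i : Fin t)
    (A : Matrix (Fin k) (Fin k) F) :
    loc i A * T As = T (Function.update As i (A * As i)) := by
  rw [loc_def, T_mul]
  congr 1
  funext l
  by_cases h : l = i
  · subst h
    rw [Function.update_self, Function.update_self]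
  · rw [Function.update_of_ne h, Function.update_of_ne h, Matrix.one_mul]

theorem loc_mul (i : Fin t) (A B : Matrix (Fin k) (Fin k) F) :
    loc i A * loc i B = loc i (A * B) := by
  rw [loc_def i A, T_mul_loc, Function.update_self, Function.update_idem, ← loc_def]

theorem loc_mul_loc (i j : Fin t) (hij : i ≠ j) (A B : Matrix (Fin k) (Fin k) F) :
    loc i A * loc j B =
      T (Function.update (Function.update (fun _ => (1 : Matrix (Fin k) (Fin k) F)) i A) j B) := by
  rw [loc_def i A, T_mul_loc, Function.update_of_ne hij.symm, Matrix.one_mul]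

theorem loc_comm (i j : Fin t) (hij : i ≠ j) (A B : Matrix (Fin k) (Fin k) F) :
    loc i A * loc j B = loc j B * loc i A := by
  rw [loc_mul_loc i j hij, loc_mul_loc j i hij.symm, Function.update_comm hij]

theorem loc_apply (i : Fin t) (A : Matrix (Fin k) (Fin k) F) (x y : Fin t → Fin k) :
    loc i A x y = A (x i) (y i) *
      ∏ l ∈ Finset.univ.erase i, (1 : Matrix (Fin k) (Fin k) F) (x l) (y l) :=
  T_update_apply _ i A x y

theorem loc_apply_eq_zero {i : Fin t} (A : Matrix (Fin k) (Fin k) F) {x y : Fin t → Fin k}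
    {l : Fin t} (hl : l ≠ i) (hxy : x l ≠ y l) : loc i A x y = 0 := by
  rw [loc_apply]
  have h0 : ∏ l ∈ Finset.univ.erase i, (1 : Matrix (Fin k) (Fin k) F) (x l) (y l) = 0 :=
    Finset.prod_eq_zero (Finset.mem_erase.mpr ⟨hl, Finset.mem_univ l⟩) (Matrix.one_apply_ne hxy)
  rw [h0, mul_zero]

theorem loc_apply_of_agree {i : Fin t} (A : Matrix (Fin k) (Fin k) F) {x y : Fin t → Fin k}
    (h : ∀ l, l ≠ i → x l = y l) : loc i A x y = A (x i) (y i) := by
  rw [loc_apply, Finset.prod_eq_one, mul_one]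
  intro l hl
  rw [h l (Finset.ne_of_mem_erase hl), Matrix.one_apply_eq]

/-- `loc i` as a linear map -/
def locL (i : Fin t) :
    Matrix (Fin k) (Fin k) F →ₗ[F] Matrix (Fin t → Fin k) (Fin t → Fin k) F where
  toFun := loc i
  map_add' := loc_add i
  map_smul' := fun c A => loc_smul i c A

theorem locL_apply (i : Fin t) (A : Matrix (Fin k) (Fin k) F) : locL i A = loc i A := rfl

/-- the permutation of the tensor factors -/
def Pm (σ : Equiv.Perm (Fin t)) : Matrix (Fin t → Fin k) (Fin t → Fin k) F :=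
  fun x y => if y = x ∘ σ then 1 else 0

theorem Pm_apply (σ : Equiv.Perm (Fin t)) (x y : Fin t → Fin k) :
    (Pm σ : Matrix (Fin t → Fin k) (Fin t → Fin k) F) x y = if y = x ∘ σ then 1 else 0 := rfl

theorem Pm_one : Pm (1 : Equiv.Perm (Fin t)) = (1 : Matrix (Fin t → Fin k) (Fin t → Fin k) F) := by
  ext x y
  rw [Pm_apply, Matrix.one_apply]
  simp only [Equiv.Perm.coe_one, Function.comp_id]
  exact if_congr eq_comm rfl rfl

theorem Pm_mul_apply (σ : Equiv.Perm (Fin t)) (M : Matrix (Fin t → Fin k) (Fin t → Fin k) F)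
    (x y : Fin t → Fin k) :
    ((Pm σ : Matrix (Fin t → Fin k) (Fin t → Fin k) F) * M) x y = M (x ∘ σ) y := by
  rw [Matrix.mul_apply]
  simp only [Pm_apply, ite_mul, one_mul, zero_mul]
  rw [Finset.sum_ite_eq']
  simp

theorem mul_Pm_apply (σ : Equiv.Perm (Fin t)) (M : Matrix (Fin t → Fin k) (Fin t → Fin k) F)
    (x y : Fin t → Fin k) :
    (M * (Pm σ : Matrix (Fin t → Fin k) (Fin t → Fin k) F)) x y = M x (y ∘ σ.symm) := by
  rw [Matrix.mul_apply]
  simp only [Pm_apply, mul_ite, mul_one, mul_zero]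
  rw [Finset.sum_eq_single (y ∘ σ.symm)]
  · rw [if_pos]
    ext l
    simp
  · intro z _ hz
    rw [if_neg]
    intro h
    apply hz
    rw [h]
    ext l
    simp
  · intro h
    exact absurd (Finset.mem_univ _) h

theorem Pm_mulVec (σ : Equiv.Perm (Fin t)) (v : (Fin t → Fin k) → F) :
    (Pm σ : Matrix (Fin t → Fin k) (Fin t → Fin k) F) *ᵥ v = fun x => v (x ∘ σ) := by
  ext x
  simp only [Matrix.mulVec, dotProduct, Pm_apply, ite_mul, one_mul, zero_mul]
  rw [Finset.sum_ite_eq']
  simp

theorem Pm_mul (σ τ : Equiv.Perm (Fin t)) :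
    (Pm σ * Pm τ : Matrix (Fin t → Fin k) (Fin t → Fin k) F) = Pm (σ * τ) := by
  ext x y
  rw [Pm_mul_apply, Pm_apply, Pm_apply]
  rfl

theorem Pm_mul_T (σ : Equiv.Perm (Fin t)) (As : Fin t → Matrix (Fin k) (Fin k) F) :
    Pm σ * T As = T (fun l => As (σ.symm l)) * Pm σ := by
  ext x y
  rw [Pm_mul_apply, mul_Pm_apply, T_apply, T_apply, ← Equiv.prod_comp σ.symm]
  refine Finset.prod_congr rfl fun l _ => ?_
  simp

theorem Pm_mul_loc (σ : Equiv.Perm (Fin t)) (i : Fin t) (A : Matrix (Fin k) (Fin k) F) :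
    Pm σ * loc i A = loc (σ i) A * Pm σ := by
  rw [loc_def, loc_def, Pm_mul_T]
  congr 2
  funext l
  by_cases h : l = σ i
  · subst h
    simp
  · rw [Function.update_of_ne h, Function.update_of_ne]
    intro h'
    apply h
    rw [← h']
    simp

/-- pure vectors -/
def pureV (xs : Fin t → (Fin k → F)) : (Fin t → Fin k) → F := fun a => ∏ i, xs i (a i)

theorem T_mulVec_pureV (As : Fin t → Matrix (Fin k) (Fin k) F) (xs : Fin t → (Fin k → F)) :
    T As *ᵥ pureV xs = pureV (fun i => As i *ᵥ xs i) := by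
  ext x
  simp only [Matrix.mulVec, dotProduct, pureV, T_apply]
  rw [Finset.prod_univ_sum, Fintype.piFinset_univ]
  refine Finset.sum_congr rfl fun z _ => ?_
  rw [Finset.prod_mul_distrib]

theorem pureV_single (a : Fin t → Fin k) :
    pureV (fun i => (Pi.single (a i) (1 : F) : Fin k → F)) = Pi.single a 1 := by
  ext y
  simp only [pureV, Pi.single_apply]
  rw [Finset.prod_boole]
  congr 1
  simp only [Finset.mem_univ, forall_true_left, eq_iff_iff]
  exact ⟨fun h => funext h, fun h i => congrFun h i⟩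

end ring

section field
variable {F : Type*} [Field F] {k t : ℕ}

/-- the tensor product of invertible matrices -/
def Tgl (gs : Fin t → GL (Fin k) F) : GL (Fin t → Fin k) F where
  val := T (fun i => (gs i : Matrix (Fin k) (Fin k) F))
  inv := T (fun i => ((gs i)⁻¹ : GL (Fin k) F))
  val_inv := by
    rw [T_mul]
    simp only [Units.mul_inv]
    exact T_one
  inv_val := by
    rw [T_mul]
    simp only [Units.inv_mul]
    exact T_one

theorem coe_Tgl (gs : Fin t → GL (Fin k) F) :
    ((Tgl gs : GL (Fin t → Fin k) F) : Matrix (Fin t → Fin k) (Fin t → Fin k) F) =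
      T (fun i => (gs i : Matrix (Fin k) (Fin k) F)) := rfl

theorem Tgl_mul (gs hs : Fin t → GL (Fin k) F) : Tgl gs * Tgl hs = Tgl (gs * hs) := by
  apply Units.ext
  rw [Units.val_mul, coe_Tgl, coe_Tgl, coe_Tgl, T_mul]
  rfl

theorem Tgl_one : Tgl (1 : Fin t → GL (Fin k) F) = 1 := by
  apply Units.ext
  rw [coe_Tgl, Units.val_one]
  exact T_one

theorem Tgl_inv (gs : Fin t → GL (Fin k) F) : (Tgl gs)⁻¹ = Tgl gs⁻¹ := by
  apply inv_eq_of_mul_eq_one_right
  rw [Tgl_mul, mul_inv_cancel, Tgl_one]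

/-- the permutation of the tensor factors, as an invertible matrix -/
def Pgl (σ : Equiv.Perm (Fin t)) : GL (Fin t → Fin k) F where
  val := Pm σ
  inv := Pm σ⁻¹
  val_inv := by rw [Pm_mul, mul_inv_cancel, Pm_one]
  inv_val := by rw [Pm_mul, inv_mul_cancel, Pm_one]

theorem coe_Pgl (σ : Equiv.Perm (Fin t)) :
    ((Pgl σ : GL (Fin t → Fin k) F) : Matrix (Fin t → Fin k) (Fin t → Fin k) F) = Pm σ := rfl

theorem Pgl_mul (σ τ : Equiv.Perm (Fin t)) :
    (Pgl σ * Pgl τ : GL (Fin t → Fin k) F) = Pgl (σ * τ) := by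
  apply Units.ext
  rw [Units.val_mul, coe_Pgl, coe_Pgl, coe_Pgl, Pm_mul]

theorem Pgl_one : (Pgl (1 : Equiv.Perm (Fin t)) : GL (Fin t → Fin k) F) = 1 := by
  apply Units.ext
  rw [coe_Pgl, Units.val_one, Pm_one]

theorem Pgl_inv (σ : Equiv.Perm (Fin t)) : (Pgl σ : GL (Fin t → Fin k) F)⁻¹ = Pgl σ⁻¹ := by
  apply inv_eq_of_mul_eq_one_right
  rw [Pgl_mul, mul_inv_cancel, Pgl_one]

theorem Pgl_mul_Tgl (σ : Equiv.Perm (Fin t)) (gs : Fin t → GL (Fin k) F) :
    Pgl σ * Tgl gs = Tgl (fun l => gs (σ.symm l)) * Pgl σ := by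
  apply Units.ext
  rw [Units.val_mul, Units.val_mul, coe_Pgl, coe_Tgl, coe_Tgl, Pm_mul_T]

theorem isPureTensor_iff (g : GL (Fin t → Fin k) F) :
    Cfsg.Geo.IsPureTensor k t g ↔ ∃ gs, g = Tgl gs := by
  constructor
  · rintro ⟨gs, h⟩
    refine ⟨gs, Units.ext ?_⟩
    ext x y
    exact h x y
  · rintro ⟨gs, rfl⟩
    exact ⟨gs, fun x y => rfl⟩

theorem isFactorPermutation_iff (g : GL (Fin t → Fin k) F) :
    Cfsg.Geo.IsFactorPermutation k t g ↔ ∃ σ, g = Pgl σ := by
  constructor
  · rintro ⟨σ, h⟩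
    refine ⟨σ, Units.ext ?_⟩
    ext x y
    exact h x y
  · rintro ⟨σ, rfl⟩
    exact ⟨σ, fun x y => rfl⟩

/-- the normal form of the elements of the standard tensor-wreath subgroup -/
theorem exists_normal_form {g : GL (Fin t → Fin k) F}
    (hg : g ∈ Cfsg.Geo.tensorWreathStandard k t F) :
    ∃ (gs : Fin t → GL (Fin k) F) (σ : Equiv.Perm (Fin t)), g = Tgl gs * Pgl σ := by
  unfold Cfsg.Geo.tensorWreathStandard at hg
  induction hg using Subgroup.closure_induction with
  | mem x hx =>
    rcases hx with hx | hx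
    · obtain ⟨gs, rfl⟩ := (isPureTensor_iff x).mp hx
      exact ⟨gs, 1, by rw [Pgl_one, mul_one]⟩
    · obtain ⟨σ, rfl⟩ := (isFactorPermutation_iff x).mp hx
      exact ⟨1, σ, by rw [Tgl_one, one_mul]⟩
  | one => exact ⟨1, 1, by rw [Tgl_one, Pgl_one, mul_one]⟩
  | mul a b _ _ ha hb =>
    obtain ⟨gs, σ, rfl⟩ := ha
    obtain ⟨hs, τ, rfl⟩ := hb
    refine ⟨gs * (fun l => hs (σ.symm l)), σ * τ, ?_⟩
    rw [← Tgl_mul, ← Pgl_mul, mul_assoc, ← mul_assoc (Pgl σ), Pgl_mul_Tgl, mul_assoc, mul_assoc]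
  | inv a _ ha =>
    obtain ⟨gs, σ, rfl⟩ := ha
    refine ⟨fun l => (gs (σ l))⁻¹, σ⁻¹, ?_⟩
    rw [_root_.mul_inv_rev, Pgl_inv, Tgl_inv, Pgl_mul_Tgl]
    rfl

theorem Tgl_mem_standard (gs : Fin t → GL (Fin k) F) :
    Tgl gs ∈ Cfsg.Geo.tensorWreathStandard k t F :=
  Subgroup.subset_closure (Or.inl ((isPureTensor_iff _).mpr ⟨gs, rfl⟩))

theorem Pgl_mem_standard (σ : Equiv.Perm (Fin t)) :
    (Pgl σ : GL (Fin t → Fin k) F) ∈ Cfsg.Geo.tensorWreathStandard k t F :=
  Subgroup.subset_closure (Or.inr ((isFactorPermutation_iff _).mpr ⟨σ, rfl⟩))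

end field

end Cfsg.Agent.Lib.Helper5.SpinWr
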