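import Mathlib
import Cfsg.Prelude
import Cfsg.Agent.Lib.Helper5.SpinWr.TPow

set_option autoImplicit false
set_option linter.unusedSectionVars false
set_option linter.unusedVariables false
open Cfsg

/-! The span of the local operators with values in a space `L0` of `k × k` matrices, and its
normaliser in the general linear group of the tensor power. -/

namespace Cfsg.Agent.Lib.Helper5.SpinWr

open Matrix

variable {F : Type*} [Field F] {k t : ℕ} (L0 : Submodule F (Matrix (Fin k) (Fin k) F))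

/-- the span of the local operators with values in `L0` -/
def Lsp (t : ℕ) : Submodule F (Matrix (Fin t → Fin k) (Fin t → Fin k) F) :=
  Submodule.span F {M | ∃ (i : Fin t) (A : Matrix (Fin k) (Fin k) F), A ∈ L0 ∧ M = loc i A}

theorem loc_mem_Lsp (i : Fin t) {A : Matrix (Fin k) (Fin k) F} (hA : A ∈ L0) :
    loc i A ∈ Lsp L0 t :=
  Submodule.subset_span ⟨i, A, hA, rfl⟩

/-- members of the span vanish at pairs of indices differing in two positions -/
theorem Lsp_local {M : Matrix (Fin t → Fin k) (Fin t → Fin k) F} (hM : M ∈ Lsp L0 t)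
    {x y : Fin t → Fin k} {i j : Fin t} (hij : i ≠ j) (hi : x i ≠ y i) (hj : x j ≠ y j) :
    M x y = 0 := by
  unfold Lsp at hM
  induction hM using Submodule.span_induction with
  | mem M hM =>
    obtain ⟨l, A, _, rfl⟩ := hM
    by_cases h : i = l
    · subst h
      exact loc_apply_eq_zero A hij.symm hj
    · exact loc_apply_eq_zero A h hi
  | zero => rfl
  | add a b _ _ ha hb => rw [Matrix.add_apply, ha, hb, add_zero]
  | smul c a _ ha => rw [Matrix.smul_apply, ha, smul_zero]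

/-- the normaliser of the span -/
def normL (t : ℕ) : Subgroup (GL (Fin t → Fin k) F) where
  carrier := {g | ∀ M ∈ Lsp L0 t,
    (g : Matrix (Fin t → Fin k) (Fin t → Fin k) F) * M *
      ((g⁻¹ : GL (Fin t → Fin k) F) : Matrix (Fin t → Fin k) (Fin t → Fin k) F) ∈ Lsp L0 t ∧
    ((g⁻¹ : GL (Fin t → Fin k) F) : Matrix (Fin t → Fin k) (Fin t → Fin k) F) * M *
      (g : Matrix (Fin t → Fin k) (Fin t → Fin k) F) ∈ Lsp L0 t}
  mul_mem' := by
    intro a b ha hb M hM
    constructor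
    · have h2 := (ha _ (hb M hM).1).1
      have e : ((a * b : GL (Fin t → Fin k) F) : Matrix (Fin t → Fin k) (Fin t → Fin k) F) * M *
          (((a * b)⁻¹ : GL (Fin t → Fin k) F) : Matrix (Fin t → Fin k) (Fin t → Fin k) F) =
          (a : Matrix (Fin t → Fin k) (Fin t → Fin k) F) *
            ((b : Matrix (Fin t → Fin k) (Fin t → Fin k) F) * M *
              ((b⁻¹ : GL (Fin t → Fin k) F) : Matrix (Fin t → Fin k) (Fin t → Fin k) F)) *
            ((a⁻¹ : GL (Fin t → Fin k) F) : Matrix (Fin t → Fin k) (Fin t → Fin k) F) := by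
        rw [_root_.mul_inv_rev, Units.val_mul, Units.val_mul]
        simp only [Matrix.mul_assoc]
      rw [e]
      exact h2
    · have h2 := (hb _ (ha M hM).2).2
      have e : (((a * b)⁻¹ : GL (Fin t → Fin k) F) : Matrix (Fin t → Fin k) (Fin t → Fin k) F) * M *
          ((a * b : GL (Fin t → Fin k) F) : Matrix (Fin t → Fin k) (Fin t → Fin k) F) =
          ((b⁻¹ : GL (Fin t → Fin k) F) : Matrix (Fin t → Fin k) (Fin t → Fin k) F) *
            (((a⁻¹ : GL (Fin t → Fin k) F) : Matrix (Fin t → Fin k) (Fin t → Fin k) F) * M *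
              (a : Matrix (Fin t → Fin k) (Fin t → Fin k) F)) *
            (b : Matrix (Fin t → Fin k) (Fin t → Fin k) F) := by
        rw [_root_.mul_inv_rev, Units.val_mul, Units.val_mul]
        simp only [Matrix.mul_assoc]
      rw [e]
      exact h2
  one_mem' := by
    intro M hM
    rw [inv_one, Units.val_one, Matrix.one_mul, Matrix.mul_one]
    exact ⟨hM, hM⟩
  inv_mem' := by
    intro a ha M hM
    rw [inv_inv]
    exact ⟨(ha M hM).2, (ha M hM).1⟩

theorem mem_normL_iff (g : GL (Fin t → Fin k) F) : g ∈ normL L0 t ↔ ∀ M ∈ Lsp L0 t,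
    (g : Matrix (Fin t → Fin k) (Fin t → Fin k) F) * M *
      ((g⁻¹ : GL (Fin t → Fin k) F) : Matrix (Fin t → Fin k) (Fin t → Fin k) F) ∈ Lsp L0 t ∧
    ((g⁻¹ : GL (Fin t → Fin k) F) : Matrix (Fin t → Fin k) (Fin t → Fin k) F) * M *
      (g : Matrix (Fin t → Fin k) (Fin t → Fin k) F) ∈ Lsp L0 t := Iff.rfl

theorem mem_normL_of_gens (g : GL (Fin t → Fin k) F)
    (h : ∀ (i : Fin t) (A : Matrix (Fin k) (Fin k) F), A ∈ L0 →
      (g : Matrix (Fin t → Fin k) (Fin t → Fin k) F) * loc i A *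
        ((g⁻¹ : GL (Fin t → Fin k) F) : Matrix (Fin t → Fin k) (Fin t → Fin k) F) ∈ Lsp L0 t ∧
      ((g⁻¹ : GL (Fin t → Fin k) F) : Matrix (Fin t → Fin k) (Fin t → Fin k) F) * loc i A *
        (g : Matrix (Fin t → Fin k) (Fin t → Fin k) F) ∈ Lsp L0 t) : g ∈ normL L0 t := by
  rw [mem_normL_iff]
  intro M hM
  have hM' := hM
  unfold Lsp at hM'
  induction hM' using Submodule.span_induction with
  | mem M hM1 =>
    obtain ⟨i, A, hA, rfl⟩ := hM1
    exact h i A hA
  | zero =>
    rw [Matrix.mul_zero, Matrix.zero_mul, Matrix.mul_zero, Matrix.zero_mul]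
    exact ⟨zero_mem _, zero_mem _⟩
  | add a b ha' hb' ha hb =>
    have ha1 := ha ha'
    have hb1 := hb hb'
    rw [Matrix.mul_add, Matrix.add_mul, Matrix.mul_add, Matrix.add_mul]
    exact ⟨add_mem ha1.1 hb1.1, add_mem ha1.2 hb1.2⟩
  | smul c a ha' ha =>
    have ha1 := ha ha'
    rw [Matrix.mul_smul, Matrix.smul_mul, Matrix.mul_smul, Matrix.smul_mul]
    exact ⟨Submodule.smul_mem _ c ha1.1, Submodule.smul_mem _ c ha1.2⟩

theorem Tgl_conj_loc (gs : Fin t → GL (Fin k) F) (i : Fin t) (A : Matrix (Fin k) (Fin k) F) :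
    ((Tgl gs : GL (Fin t → Fin k) F) : Matrix (Fin t → Fin k) (Fin t → Fin k) F) * loc i A *
      (((Tgl gs)⁻¹ : GL (Fin t → Fin k) F) : Matrix (Fin t → Fin k) (Fin t → Fin k) F) =
      loc i ((gs i : Matrix (Fin k) (Fin k) F) * A *
        (((gs i)⁻¹ : GL (Fin k) F) : Matrix (Fin k) (Fin k) F)) := by
  have h1 : T (fun i => (gs i : Matrix (Fin k) (Fin k) F)) * loc i A =
      loc i ((gs i : Matrix (Fin k) (Fin k) F) * A *
        (((gs i)⁻¹ : GL (Fin k) F) : Matrix (Fin k) (Fin k) F)) *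
        T (fun i => (gs i : Matrix (Fin k) (Fin k) F)) := by
    rw [T_mul_loc, loc_mul_T]
    congr 2
    rw [Matrix.mul_assoc, Units.inv_mul, Matrix.mul_one]
  rw [coe_Tgl, h1, Matrix.mul_assoc, ← coe_Tgl, ← Units.val_mul, mul_inv_cancel, Units.val_one,
    Matrix.mul_one]

theorem Tgl_mem_normL (gs : Fin t → GL (Fin k) F)
    (h : ∀ i, ∀ A ∈ L0, (gs i : Matrix (Fin k) (Fin k) F) * A *
        (((gs i)⁻¹ : GL (Fin k) F) : Matrix (Fin k) (Fin k) F) ∈ L0 ∧
      (((gs i)⁻¹ : GL (Fin k) F) : Matrix (Fin k) (Fin k) F) * A *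
        (gs i : Matrix (Fin k) (Fin k) F) ∈ L0) :
    Tgl gs ∈ normL L0 t := by
  apply mem_normL_of_gens
  intro i A hA
  constructor
  · rw [Tgl_conj_loc]
    exact loc_mem_Lsp L0 i (h i A hA).1
  · have h1 := Tgl_conj_loc (fun i => (gs i)⁻¹) i A
    have e : Tgl (fun i => (gs i)⁻¹) = (Tgl gs)⁻¹ := (Tgl_inv gs).symm
    rw [e, inv_inv] at h1
    rw [h1]
    simp only [inv_inv]
    exact loc_mem_Lsp L0 i (h i A hA).2

theorem Pgl_conj_loc (σ : Equiv.Perm (Fin t)) (i : Fin t) (A : Matrix (Fin k) (Fin k) F) :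
    ((Pgl σ : GL (Fin t → Fin k) F) : Matrix (Fin t → Fin k) (Fin t → Fin k) F) * loc i A *
      (((Pgl σ)⁻¹ : GL (Fin t → Fin k) F) : Matrix (Fin t → Fin k) (Fin t → Fin k) F) =
      loc (σ i) A := by
  rw [coe_Pgl, Pm_mul_loc, Matrix.mul_assoc, ← coe_Pgl, ← Units.val_mul, mul_inv_cancel,
    Units.val_one, Matrix.mul_one]

theorem Pgl_mem_normL (σ : Equiv.Perm (Fin t)) : (Pgl σ : GL (Fin t → Fin k) F) ∈ normL L0 t := by
  apply mem_normL_of_gens
  intro i A hA
  constructor
  · rw [Pgl_conj_loc]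
    exact loc_mem_Lsp L0 _ hA
  · have h1 := Pgl_conj_loc (F := F) (k := k) σ⁻¹ i A
    rw [← Pgl_inv, inv_inv] at h1
    rw [h1]
    exact loc_mem_Lsp L0 _ hA

section unipotent
variable (h2 : (2 : F) = 0)

theorem one_add_sq (h2 : (2 : F) = 0) (N : Matrix (Fin t → Fin k) (Fin t → Fin k) F)
    (hN : N * N = 0) : (1 + N) * (1 + N) = 1 := by
  have e : (1 + N) * (1 + N) = 1 + (2 : F) • N + N * N := by
    rw [two_smul]
    noncomm_ring
  rw [e, hN, h2, zero_smul, add_zero, add_zero]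

/-- the unipotent element `1 + N` for a matrix of square zero, in characteristic two -/
def Ugl (h2 : (2 : F) = 0) (N : Matrix (Fin t → Fin k) (Fin t → Fin k) F) (hN : N * N = 0) :
    GL (Fin t → Fin k) F where
  val := 1 + N
  inv := 1 + N
  val_inv := one_add_sq h2 N hN
  inv_val := one_add_sq h2 N hN

theorem coe_Ugl (N : Matrix (Fin t → Fin k) (Fin t → Fin k) F) (hN : N * N = 0) :
    ((Ugl h2 N hN : GL (Fin t → Fin k) F) : Matrix (Fin t → Fin k) (Fin t → Fin k) F) = 1 + N := rfl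

theorem coe_Ugl_inv (N : Matrix (Fin t → Fin k) (Fin t → Fin k) F) (hN : N * N = 0) :
    (((Ugl h2 N hN)⁻¹ : GL (Fin t → Fin k) F) : Matrix (Fin t → Fin k) (Fin t → Fin k) F) = 1 + N :=
  rfl

theorem Ugl_conj (N C : Matrix (Fin t → Fin k) (Fin t → Fin k) F) :
    (1 + N) * C * (1 + N) = C + (N * C + C * N + N * C * N) := by
  noncomm_ring

theorem Ugl_mem_normL (N : Matrix (Fin t → Fin k) (Fin t → Fin k) F) (hN : N * N = 0)
    (h : ∀ (i : Fin t) (A : Matrix (Fin k) (Fin k) F), A ∈ L0 →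
      N * loc i A + loc i A * N + N * loc i A * N ∈ Lsp L0 t) : Ugl h2 N hN ∈ normL L0 t := by
  apply mem_normL_of_gens
  intro i A hA
  rw [coe_Ugl, coe_Ugl_inv, Ugl_conj]
  exact ⟨add_mem (loc_mem_Lsp L0 i hA) (h i A hA), add_mem (loc_mem_Lsp L0 i hA) (h i A hA)⟩

theorem ring_aux1 {R : Type*} [Ring R] (a b c : R) (hba : b * a = a * b) (hbc : b * c = c * b) :
    a * b * c + c * (a * b) + a * b * c * (a * b) = (a * c + c * a) * b + a * c * a * (b * b) := by
  have e1 : a * b * c = a * c * b := by rw [mul_assoc, hbc, ← mul_assoc]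
  have e2 : a * b * c * (a * b) = a * c * a * (b * b) := by
    rw [e1, mul_assoc (a * c) b (a * b), ← mul_assoc b a b, hba, mul_assoc a b b,
      ← mul_assoc (a * c) a (b * b)]
  rw [e2, e1, add_mul, ← mul_assoc c a b]

theorem ring_aux2 {R : Type*} [Ring R] (a b c : R) (hab : a * b = b * a) (hac : a * c = c * a) :
    a * b * c + c * (a * b) + a * b * c * (a * b) = a * (b * c + c * b) + a * a * (b * c * b) := by
  have e1 : c * (a * b) = a * (c * b) := by rw [← mul_assoc, ← hac, mul_assoc]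
  have e2 : a * b * c * (a * b) = a * a * (b * c * b) := by
    have : b * c * a = a * (b * c) := by rw [mul_assoc, ← hac, ← mul_assoc, ← hab, mul_assoc]
    rw [mul_assoc a b c, mul_assoc a (b * c) (a * b), ← mul_assoc (b * c) a b, this,
      mul_assoc a (b * c) b, ← mul_assoc a a]
  rw [e1, e2, mul_assoc a b c, ← mul_add]

theorem ring_aux3 {R : Type*} [Ring R] (n c : R) (hnc : n * c = c * n) (hn : n * n = 0)
    (h2 : (2 : R) = 0) : n * c + c * n + n * c * n = 0 := by
  have e1 : n * c * n = 0 := by rw [hnc, mul_assoc, hn, mul_zero]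
  have e2 : n * c + c * n = 2 * (c * n) := by rw [hnc, two_mul]
  rw [e1, e2, h2, zero_mul, add_zero]

theorem uN_sq (i j : Fin t) (hij : i ≠ j) (A B : Matrix (Fin k) (Fin k) F) (hB : B * B = 0) :
    (loc i A * loc j B) * (loc i A * loc j B) = 0 := by
  have e : (loc i A * loc j B) * (loc i A * loc j B) =
      loc i A * loc i A * (loc j B * loc j B) := by
    rw [Matrix.mul_assoc, ← Matrix.mul_assoc (loc j B), ← loc_comm i j hij A B]
    simp only [Matrix.mul_assoc]
  rw [e, loc_mul j, hB, loc_zero, Matrix.mul_zero]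

/-- the unipotent elements `1 + A^(i) B^(j)` normalise the span -/
theorem u_mem_normL (hP2 : ∀ A ∈ L0, ∀ C ∈ L0, ∃ s : F, A * C + C * A = s • 1)
    (hP2' : ∀ A ∈ L0, ∃ s : F, A * A = s • 1) (i j : Fin t) (hij : i ≠ j)
    (A B : Matrix (Fin k) (Fin k) F) (hA : A ∈ L0) (hB : B ∈ L0) (hBB : B * B = 0) :
    Ugl h2 (loc i A * loc j B) (uN_sq i j hij A B hBB) ∈ normL L0 t := by
  apply Ugl_mem_normL
  intro l C hC
  have h2' : (2 : Matrix (Fin t → Fin k) (Fin t → Fin k) F) = 0 := by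
    have : (2 : Matrix (Fin t → Fin k) (Fin t → Fin k) F) = (2 : F) • 1 := by
      rw [two_smul, one_add_one_eq_two]
    rw [this, h2, zero_smul]
  by_cases hli : l = i
  · subst hli
    rw [ring_aux1 _ _ _ (loc_comm j l hij.symm B A) (loc_comm j l hij.symm B C), loc_mul, loc_mul,
      ← loc_add, loc_mul, loc_mul, hBB, loc_zero, Matrix.mul_zero, add_zero]
    obtain ⟨s, hs⟩ := hP2 A hA C hC
    rw [hs, loc_smul, loc_one, Matrix.smul_mul, Matrix.one_mul]
    exact Submodule.smul_mem _ s (loc_mem_Lsp L0 j hB)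
  · by_cases hlj : l = j
    · subst hlj
      rw [ring_aux2 _ _ _ (loc_comm i l hij A B) (loc_comm i l hij A C), loc_mul, loc_mul,
        ← loc_add, loc_mul, loc_mul]
      obtain ⟨s, hs⟩ := hP2 B hB C hC
      obtain ⟨s', hs'⟩ := hP2' A hA
      have e3 : B * C * B = s • B := by
        have : C * B = s • 1 - B * C := by rw [← hs]; abel
        rw [Matrix.mul_assoc, this, Matrix.mul_sub, Matrix.mul_smul, Matrix.mul_one,
          ← Matrix.mul_assoc, hBB, Matrix.zero_mul, sub_zero]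
      rw [hs, hs', e3, loc_smul, loc_smul, loc_smul, loc_one, loc_one, Matrix.mul_smul,
        Matrix.mul_one, Matrix.smul_mul, Matrix.one_mul]
      exact add_mem (Submodule.smul_mem _ s (loc_mem_Lsp L0 i hA))
        (Submodule.smul_mem _ s' (Submodule.smul_mem _ s (loc_mem_Lsp L0 l hB)))
    · have hc : (loc i A * loc j B) * loc l C = loc l C * (loc i A * loc j B) := by
        rw [Matrix.mul_assoc, loc_comm j l (Ne.symm hlj) B C, ← Matrix.mul_assoc,
          loc_comm i l (Ne.symm hli) A C, Matrix.mul_assoc]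
      rw [ring_aux3 _ _ hc (uN_sq i j hij A B hBB) h2']
      exact zero_mem _

end unipotent

end Cfsg.Agent.Lib.Helper5.SpinWr
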