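import Mathlib
import Cfsg.Prelude
import Cfsg.Agent.Lib.Helper5.SpinWr.NormL

set_option autoImplicit false
set_option linter.unusedSectionVars false
set_option linter.unusedVariables false
open Cfsg

/-! Transport of the tensor power to `F^ι`, quadratic forms vanishing on pure tensors whose polar
form is a tensor power of an alternating form, and explicit isometries. -/

namespace Cfsg.Agent.Lib.Helper5.SpinWr

open Matrix
open scoped commutatorElement

section transport
variable {F : Type*} [Field F] {ι : Type} [Fintype ι] [DecidableEq ι]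
  {κ : Type} [Fintype κ] [DecidableEq κ] (e : ι ≃ κ) (P : GL ι F)

/-- the embedding of coordinate vectors -/
def emb (x : κ → F) : ι → F := (P : Matrix ι ι F) *ᵥ (x ∘ e)

theorem emb_add (x y : κ → F) : emb e P (x + y) = emb e P x + emb e P y := by
  unfold emb
  rw [show (x + y) ∘ e = x ∘ e + y ∘ e from rfl, Matrix.mulVec_add]

theorem emb_smul (c : F) (x : κ → F) : emb e P (c • x) = c • emb e P x := by
  unfold emb
  rw [show (c • x) ∘ e = c • (x ∘ e) from rfl, Matrix.mulVec_smul]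

theorem emb_surjective (v : ι → F) : ∃ x : κ → F, emb e P x = v := by
  refine ⟨(((P⁻¹ : GL ι F) : Matrix ι ι F) *ᵥ v) ∘ e.symm, ?_⟩
  unfold emb
  have h : ((((P⁻¹ : GL ι F) : Matrix ι ι F) *ᵥ v) ∘ e.symm) ∘ e =
      ((P⁻¹ : GL ι F) : Matrix ι ι F) *ᵥ v := by
    ext i
    simp
  rw [h, Matrix.mulVec_mulVec, ← Units.val_mul, mul_inv_cancel, Units.val_one, Matrix.one_mulVec]

/-- the isomorphism transporting the standard group to `GL(ι, F)` -/
noncomputable def Theta : GL κ F ≃* GL ι F :=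
  (Cfsg.Geo.glReindex e.symm).trans (MulAut.conj P)

theorem coe_Theta (x : GL κ F) :
    ((Theta e P x : GL ι F) : Matrix ι ι F) =
      (P : Matrix ι ι F) * (x : Matrix κ κ F).submatrix e e *
        ((P⁻¹ : GL ι F) : Matrix ι ι F) := rfl

theorem Theta_emb (x : GL κ F) (v : κ → F) :
    ((Theta e P x : GL ι F) : Matrix ι ι F) *ᵥ emb e P v =
      emb e P ((x : Matrix κ κ F) *ᵥ v) := by
  unfold emb
  rw [coe_Theta, Matrix.mulVec_mulVec, Matrix.mul_assoc, Matrix.mul_assoc, ← Units.val_mul,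
    inv_mul_cancel, Units.val_one, Matrix.mul_one, ← Matrix.mulVec_mulVec]
  congr 1
  rw [Matrix.submatrix_mulVec_equiv]
  congr 2
  ext i
  simp

theorem Theta_mem_isom (Q : (ι → F) → F) (x : GL κ F)
    (h : ∀ v, Q (emb e P ((x : Matrix κ κ F) *ᵥ v)) = Q (emb e P v)) :
    Theta e P x ∈ isometryGroup F Q := by
  intro u _
  obtain ⟨v, rfl⟩ := emb_surjective e P u
  show Q (((Theta e P x : GL ι F) : Matrix ι ι F) *ᵥ emb e P v) = Q (emb e P v)
  rw [Theta_emb, h]

theorem isom_of_Theta_mem (Q : (ι → F) → F) (x : GL κ F) (h : Theta e P x ∈ isometryGroup F Q)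
    (v : κ → F) : Q (emb e P ((x : Matrix κ κ F) *ᵥ v)) = Q (emb e P v) := by
  rw [← Theta_emb]
  exact h (emb e P v) (emb e P v)

theorem commutator_mem_omegaGL (Q : (ι → F) → F) (a b : GL ι F) (ha : a ∈ isometryGroup F Q)
    (hb : b ∈ isometryGroup F Q) : ⁅a, b⁆ ∈ Cfsg.Geo.omegaGL Q := by
  unfold Cfsg.Geo.omegaGL
  refine ⟨⁅(⟨a, ha⟩ : ↥(isometryGroup F Q)), ⟨b, hb⟩⁆, ?_, rfl⟩
  exact Subgroup.commutator_mem_commutator (Subgroup.mem_top _) (Subgroup.mem_top _)

theorem omegaGL_le_isom' (Q : (ι → F) → F) : Cfsg.Geo.omegaGL Q ≤ isometryGroup F Q := by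
  unfold Cfsg.Geo.omegaGL
  rintro g ⟨a, _, rfl⟩
  exact a.2

end transport

section wreath
variable {F : Type*} [Field F] {ι : Type} [Fintype ι] [DecidableEq ι] {k t : ℕ}
  (e : ι ≃ (Fin t → Fin k)) (P : GL ι F)

theorem tws_eq : Cfsg.Geo.tensorWreathSubgroup k t e P =
    (Cfsg.Geo.tensorWreathStandard k t F).map (Theta e P).toMonoidHom := by
  unfold Cfsg.Geo.tensorWreathSubgroup
  rw [Subgroup.map_map]
  rfl

theorem mem_tws_iff (g : GL ι F) : g ∈ Cfsg.Geo.tensorWreathSubgroup k t e P ↔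
    ∃ x ∈ Cfsg.Geo.tensorWreathStandard k t F, Theta e P x = g := by
  rw [tws_eq, Subgroup.mem_map]
  rfl

end wreath

section forms
variable {F : Type*} [Field F] {κ : Type} [Fintype κ] [DecidableEq κ]

/-- the bilinear form with a given Gram matrix -/
def bil (Γ : Matrix κ κ F) (x y : κ → F) : F := x ⬝ᵥ Γ *ᵥ y

theorem bil_eq_sum (Γ : Matrix κ κ F) (x y : κ → F) :
    bil Γ x y = ∑ a, ∑ b, x a * Γ a b * y b := by
  unfold bil
  simp only [dotProduct, Matrix.mulVec, Finset.mul_sum, mul_assoc]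

theorem bil_mulVec (Γ g : Matrix κ κ F) (x y : κ → F) :
    bil Γ (g *ᵥ x) (g *ᵥ y) = bil (gᵀ * Γ * g) x y := by
  unfold bil
  rw [Matrix.mulVec_mulVec, Matrix.dotProduct_mulVec, ← Matrix.vecMul_transpose g x,
    Matrix.vecMul_vecMul, ← Matrix.dotProduct_mulVec, Matrix.mul_assoc]

theorem bil_single (Γ : Matrix κ κ F) (a b : κ) :
    bil Γ (Pi.single a 1) (Pi.single b 1) = Γ a b := by
  unfold bil
  simp [Matrix.mulVec_single]

theorem eq_of_bil_eq (Γ Γ' : Matrix κ κ F) (h : ∀ x y, bil Γ x y = bil Γ' x y) : Γ = Γ' := by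
  ext a b
  rw [← bil_single Γ a b, ← bil_single Γ' a b, h]

end forms

section data
variable {F : Type*} [Field F] {ι : Type} [Fintype ι] [DecidableEq ι] {k t : ℕ}

/-- the hypotheses on the quadratic form, in standard form -/
structure Dat (Q : (ι → F) → F) (e : ι ≃ (Fin t → Fin k)) (P : GL ι F)
    (G : Matrix (Fin k) (Fin k) F) (c : F) : Prop where
  two : (2 : F) = 0
  smul : ∀ (r : F) (v : ι → F), Q (r • v) = r ^ 2 * Q v
  c_ne : c ≠ 0
  polar : ∀ x y : (Fin t → Fin k) → F,
    QuadraticMap.polar Q (emb e P x) (emb e P y) = c * bil (T (fun _ => G)) x y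
  pure : ∀ xs : Fin t → (Fin k → F), Q (emb e P (pureV xs)) = 0
  alt : ∀ a, G a a = 0
  symm : Gᵀ = G

variable {Q : (ι → F) → F} {e : ι ≃ (Fin t → Fin k)} {P : GL ι F}
  {G : Matrix (Fin k) (Fin k) F} {c : F}

theorem Dat.quad_add (D : Dat Q e P G c) (x y : (Fin t → Fin k) → F) :
    Q (emb e P (x + y)) = Q (emb e P x) + Q (emb e P y) + c * bil (T (fun _ => G)) x y := by
  rw [← D.polar, emb_add]
  unfold QuadraticMap.polar
  ring

theorem Dat.quad_single (D : Dat Q e P G c) (a : Fin t → Fin k) :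
    Q (emb e P (Pi.single a 1)) = 0 := by
  rw [← pureV_single]
  exact D.pure _

/-- an isometry criterion: preserve the polar form and the values on the basis vectors -/
theorem Dat.isom_of (D : Dat Q e P G c) (g : Matrix (Fin t → Fin k) (Fin t → Fin k) F)
    (hβ : gᵀ * T (fun _ => G) * g = T (fun _ => G))
    (hδ : ∀ a, Q (emb e P (g *ᵥ Pi.single a 1)) = 0) (x : (Fin t → Fin k) → F) :
    Q (emb e P (g *ᵥ x)) = Q (emb e P x) := by
  have hadd : ∀ x y : (Fin t → Fin k) → F,
      (Q (emb e P (g *ᵥ (x + y))) - Q (emb e P (x + y))) =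
      (Q (emb e P (g *ᵥ x)) - Q (emb e P x)) + (Q (emb e P (g *ᵥ y)) - Q (emb e P y)) := by
    intro x y
    rw [Matrix.mulVec_add, D.quad_add, D.quad_add, bil_mulVec, hβ]
    ring
  let Dm : ((Fin t → Fin k) → F) →+ F :=
    AddMonoidHom.mk' (fun x => Q (emb e P (g *ᵥ x)) - Q (emb e P x)) hadd
  have hDm : ∀ x, Dm x = Q (emb e P (g *ᵥ x)) - Q (emb e P x) := fun x => rfl
  have hs : ∀ (a : Fin t → Fin k) (r : F), Dm (Pi.single a r) = 0 := by
    intro a r
    have h1 : (Pi.single a r : (Fin t → Fin k) → F) = r • Pi.single a 1 := by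
      ext b
      simp [Pi.single_apply]
    rw [hDm, h1, Matrix.mulVec_smul, emb_smul, emb_smul, D.smul, D.smul, hδ, D.quad_single]
    ring
  have h0 : Dm x = 0 := by
    rw [← Finset.univ_sum_single x, map_sum]
    exact Finset.sum_eq_zero fun a _ => hs a (x a)
  rw [hDm] at h0
  exact sub_eq_zero.mp h0

theorem Dat.isom_T (D : Dat Q e P G c) (hs : Fin t → Matrix (Fin k) (Fin k) F)
    (h : ∀ i, (hs i)ᵀ * G * hs i = G) (x : (Fin t → Fin k) → F) :
    Q (emb e P (T hs *ᵥ x)) = Q (emb e P x) := by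
  apply D.isom_of
  · rw [T_transpose, T_mul, T_mul]
    congr 1
    funext i
    exact h i
  · intro a
    rw [← pureV_single, T_mulVec_pureV]
    exact D.pure _

theorem two_smul_mat (D : Dat Q e P G c) (M : Matrix (Fin t → Fin k) (Fin t → Fin k) F) :
    M + M = 0 := by
  rw [← two_smul F M, D.two, zero_smul]

/-- unipotent isometries -/
theorem Dat.isom_U (D : Dat Q e P G c) (As : Fin t → Matrix (Fin k) (Fin k) F)
    (hsa : ∀ i, (As i)ᵀ * G = G * As i) (l : Fin t) (hl : As l * As l = 0) (l' : Fin t)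
    (hl' : ∀ a, (G * As l') a a = 0) (x : (Fin t → Fin k) → F) :
    Q (emb e P ((1 + T As) *ᵥ x)) = Q (emb e P x) := by
  have hN : T As * T As = 0 := by
    rw [T_mul]
    exact T_eq_zero_of _ l hl
  have hNG : (T As)ᵀ * T (fun _ => G) = T (fun _ => G) * T As := by
    rw [T_transpose, T_mul, T_mul]
    congr 1
    funext i
    exact hsa i
  apply D.isom_of
  · have e1 : (1 + T As)ᵀ * T (fun _ => G) * (1 + T As) =
        T (fun _ => G) + ((T As)ᵀ * T (fun _ => G) + T (fun _ => G) * T As) +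
          (T As)ᵀ * T (fun _ => G) * T As := by
      rw [Matrix.transpose_add, Matrix.transpose_one]
      noncomm_ring
    rw [e1, hNG, Matrix.mul_assoc, hN, Matrix.mul_zero, add_zero, two_smul_mat D, add_zero]
  · intro a
    rw [Matrix.add_mulVec, Matrix.one_mulVec, D.quad_add, D.quad_single]
    have hq : Q (emb e P (T As *ᵥ Pi.single a 1)) = 0 := by
      rw [← pureV_single, T_mulVec_pureV]
      exact D.pure _
    have h1 : bil (T (fun _ => G)) (Pi.single a 1) (T As *ᵥ Pi.single a 1) =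
        (T (fun _ => G) * T As : Matrix (Fin t → Fin k) (Fin t → Fin k) F) a a := by
      unfold bil
      rw [Matrix.mulVec_mulVec]
      simp [Matrix.mulVec_single]
    rw [hq, h1, T_mul, T_apply, Finset.prod_eq_zero (Finset.mem_univ l') (hl' (a l'))]
    ring

end data

end Cfsg.Agent.Lib.Helper5.SpinWr
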