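import Mathlib
import Cfsg.Prelude
import Cfsg.Agent.Lib.Helper5.SpinWr.Forms

set_option autoImplicit false
set_option linter.unusedSectionVars false
set_option linter.unusedVariables false
open Cfsg

/-! Explicit elements of `Ω`: commutators of local symplectic elements with unipotent tensor
elements; the stabiliser of the tensor decomposition normalises the span of local operators. -/

namespace Cfsg.Agent.Lib.Helper5.SpinWr

open Matrix
open scoped commutatorElement

section pure
variable {F : Type*} [Field F] {k t : ℕ}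

theorem Pm_mulVec_pureV (σ : Equiv.Perm (Fin t)) (xs : Fin t → (Fin k → F)) :
    (Pm σ : Matrix (Fin t → Fin k) (Fin t → Fin k) F) *ᵥ pureV xs =
      pureV (fun i => xs (σ.symm i)) := by
  rw [Pm_mulVec]
  ext x
  simp only [pureV, Function.comp_apply]
  rw [← Equiv.prod_comp σ.symm]
  refine Finset.prod_congr rfl fun l _ => ?_
  simp

theorem pure_of_mem_standard {x : GL (Fin t → Fin k) F}
    (hx : x ∈ Cfsg.Geo.tensorWreathStandard k t F) (xs : Fin t → (Fin k → F)) :
    ∃ ys : Fin t → (Fin k → F),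
      (x : Matrix (Fin t → Fin k) (Fin t → Fin k) F) *ᵥ pureV xs = pureV ys := by
  obtain ⟨gs, σ, rfl⟩ := exists_normal_form hx
  refine ⟨fun i => (gs i : Matrix (Fin k) (Fin k) F) *ᵥ xs (σ.symm i), ?_⟩
  rw [Units.val_mul, ← Matrix.mulVec_mulVec, coe_Pgl, Pm_mulVec_pureV, coe_Tgl, T_mulVec_pureV]

theorem pureV_swap (ys : Fin t → (Fin k → F)) (a b : Fin t → Fin k) (i : Fin t) :
    pureV ys a * pureV ys b =
      pureV ys (Function.update a i (b i)) * pureV ys (Function.update b i (a i)) := by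
  unfold pureV
  rw [← Finset.prod_mul_distrib, ← Finset.prod_mul_distrib]
  refine Finset.prod_congr rfl fun l _ => ?_
  by_cases h : l = i
  · subst h
    rw [Function.update_self, Function.update_self, mul_comm]
  · rw [Function.update_of_ne h, Function.update_of_ne h]

/-- an element of the standard group has pure columns -/
theorem col_swap_of_mem_standard {x : GL (Fin t → Fin k) F}
    (hx : x ∈ Cfsg.Geo.tensorWreathStandard k t F) (a b b' : Fin t → Fin k) (i : Fin t) :
    (x : Matrix (Fin t → Fin k) (Fin t → Fin k) F) b a *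
        (x : Matrix (Fin t → Fin k) (Fin t → Fin k) F) b' a =
      (x : Matrix (Fin t → Fin k) (Fin t → Fin k) F) (Function.update b i (b' i)) a *
        (x : Matrix (Fin t → Fin k) (Fin t → Fin k) F) (Function.update b' i (b i)) a := by
  obtain ⟨ys, hys⟩ := pure_of_mem_standard hx (fun i => (Pi.single (a i) (1 : F) : Fin k → F))
  rw [pureV_single] at hys
  have hcol : ∀ b, (x : Matrix (Fin t → Fin k) (Fin t → Fin k) F) b a = pureV ys b := by
    intro b
    rw [← hys]
    simp [Matrix.mulVec_single]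
  rw [hcol, hcol, hcol, hcol]
  exact pureV_swap ys b b' i

end pure

section elements
variable {F : Type*} [Field F] {k t : ℕ}

theorem T_sq_zero (As : Fin t → Matrix (Fin k) (Fin k) F) (l : Fin t) (hl : As l * As l = 0) :
    T As * T As = 0 := by
  rw [T_mul]
  exact T_eq_zero_of _ l hl

theorem coe_Tgl_update (i : Fin t) (h₀ : GL (Fin k) F) :
    ((Tgl (Function.update (1 : Fin t → GL (Fin k) F) i h₀) : GL (Fin t → Fin k) F) :
      Matrix (Fin t → Fin k) (Fin t → Fin k) F) = loc i (h₀ : Matrix (Fin k) (Fin k) F) := by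
  rw [coe_Tgl, loc_def]
  congr 1
  funext l
  by_cases h : l = i
  · subst h
    rw [Function.update_self, Function.update_self]
  · rw [Function.update_of_ne h, Function.update_of_ne h]
    rfl

theorem coe_Tgl_update_inv (i : Fin t) (h₀ : GL (Fin k) F) :
    (((Tgl (Function.update (1 : Fin t → GL (Fin k) F) i h₀))⁻¹ : GL (Fin t → Fin k) F) :
      Matrix (Fin t → Fin k) (Fin t → Fin k) F) =
      loc i ((h₀⁻¹ : GL (Fin k) F) : Matrix (Fin k) (Fin k) F) := by
  have h1 : (Tgl (Function.update (1 : Fin t → GL (Fin k) F) i h₀))⁻¹ =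
      Tgl (Function.update (1 : Fin t → GL (Fin k) F) i h₀⁻¹) := by
    rw [Tgl_inv]
    congr 1
    funext l
    by_cases h : l = i
    · subst h
      rw [Pi.inv_apply, Function.update_self, Function.update_self]
    · rw [Pi.inv_apply, Function.update_of_ne h, Function.update_of_ne h]
      simp
  rw [h1, coe_Tgl_update]

/-- the commutator of a local element with a unipotent tensor element -/
theorem comm_formula (h2 : (2 : F) = 0) (i l : Fin t) (hli : l ≠ i) (h₀ : GL (Fin k) F)
    (As : Fin t → Matrix (Fin k) (Fin k) F) (hl : As l * As l = 0)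
    (hN' : T (Function.update As i ((h₀ : Matrix (Fin k) (Fin k) F) * As i *
      ((h₀⁻¹ : GL (Fin k) F) : Matrix (Fin k) (Fin k) F) + As i)) *
      T (Function.update As i ((h₀ : Matrix (Fin k) (Fin k) F) * As i *
      ((h₀⁻¹ : GL (Fin k) F) : Matrix (Fin k) (Fin k) F) + As i)) = 0) :
    ⁅Tgl (Function.update (1 : Fin t → GL (Fin k) F) i h₀), Ugl h2 (T As) (T_sq_zero As l hl)⁆ =
      Ugl h2 (T (Function.update As i ((h₀ : Matrix (Fin k) (Fin k) F) * As i *
        ((h₀⁻¹ : GL (Fin k) F) : Matrix (Fin k) (Fin k) F) + As i))) hN' := by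
  apply Units.ext
  rw [commutatorElement_def, Units.val_mul, Units.val_mul, Units.val_mul, coe_Tgl_update,
    coe_Tgl_update_inv, coe_Ugl, coe_Ugl_inv, coe_Ugl]
  set M : Matrix (Fin k) (Fin k) F := (h₀ : Matrix (Fin k) (Fin k) F) * As i *
      ((h₀⁻¹ : GL (Fin k) F) : Matrix (Fin k) (Fin k) F) with hM
  have e1 : loc i (h₀ : Matrix (Fin k) (Fin k) F) * (1 + T As) *
      loc i ((h₀⁻¹ : GL (Fin k) F) : Matrix (Fin k) (Fin k) F) = 1 + T (Function.update As i M) := by
    rw [Matrix.mul_add, Matrix.mul_one, Matrix.add_mul, loc_mul, Units.mul_inv, loc_one,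
      loc_mul_T, T_mul_loc, Function.update_self, Function.update_idem]
  have e2 : T (Function.update As i M) * T As = 0 := by
    rw [T_mul]
    apply T_eq_zero_of _ l
    rw [Function.update_of_ne hli]
    exact hl
  have e3 : T (Function.update As i M) + T As = T (Function.update As i (M + As i)) := by
    rw [T_update_add, Function.update_eq_self]
  rw [e1, Matrix.add_mul, Matrix.one_mul, Matrix.mul_add, Matrix.mul_one, e2, add_zero,
    add_assoc, add_comm (T As), e3]

end elements

section data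
variable {F : Type*} [Field F] {ι : Type} [Fintype ι] [DecidableEq ι] {k t : ℕ}
  {Q : (ι → F) → F} {e : ι ≃ (Fin t → Fin k)} {P : GL ι F}
  {G : Matrix (Fin k) (Fin k) F} {c : F}

theorem Dat.Theta_Tgl_mem (D : Dat Q e P G c) (gs : Fin t → GL (Fin k) F)
    (h : ∀ i, (gs i : Matrix (Fin k) (Fin k) F)ᵀ * G * (gs i : Matrix (Fin k) (Fin k) F) = G) :
    Theta e P (Tgl gs) ∈ isometryGroup F Q := by
  apply Theta_mem_isom
  intro v
  rw [coe_Tgl]
  exact D.isom_T _ h v

theorem Dat.Theta_Ugl_mem (D : Dat Q e P G c) (As : Fin t → Matrix (Fin k) (Fin k) F)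
    (hsa : ∀ i, (As i)ᵀ * G = G * As i) (l : Fin t) (hl : As l * As l = 0) (l' : Fin t)
    (hl' : ∀ a, (G * As l') a a = 0) :
    Theta e P (Ugl D.two (T As) (T_sq_zero As l hl)) ∈ isometryGroup F Q := by
  apply Theta_mem_isom
  intro v
  rw [coe_Ugl]
  exact D.isom_U As hsa l hl l' hl' v

/-- the commutator elements lie in `Ω` -/
theorem Dat.Theta_comm_mem (D : Dat Q e P G c) (i l l' : Fin t) (hli : l ≠ i)
    (h₀ : GL (Fin k) F)
    (hh : (h₀ : Matrix (Fin k) (Fin k) F)ᵀ * G * (h₀ : Matrix (Fin k) (Fin k) F) = G)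
    (As : Fin t → Matrix (Fin k) (Fin k) F)
    (hsa : ∀ i, (As i)ᵀ * G = G * As i) (hl : As l * As l = 0)
    (hl' : ∀ a, (G * As l') a a = 0)
    (hN' : T (Function.update As i ((h₀ : Matrix (Fin k) (Fin k) F) * As i *
      ((h₀⁻¹ : GL (Fin k) F) : Matrix (Fin k) (Fin k) F) + As i)) *
      T (Function.update As i ((h₀ : Matrix (Fin k) (Fin k) F) * As i *
      ((h₀⁻¹ : GL (Fin k) F) : Matrix (Fin k) (Fin k) F) + As i)) = 0) :
    Theta e P (Ugl D.two (T (Function.update As i ((h₀ : Matrix (Fin k) (Fin k) F) * As i *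
        ((h₀⁻¹ : GL (Fin k) F) : Matrix (Fin k) (Fin k) F) + As i))) hN') ∈
      Cfsg.Geo.omegaGL Q := by
  rw [← comm_formula D.two i l hli h₀ As hl hN', map_commutatorElement]
  apply commutator_mem_omegaGL
  · apply D.Theta_Tgl_mem
    intro m
    by_cases hm : m = i
    · subst hm
      rw [Function.update_self]
      exact hh
    · rw [Function.update_of_ne hm]
      show (1 : Matrix (Fin k) (Fin k) F)ᵀ * G * 1 = G
      rw [Matrix.transpose_one, Matrix.one_mul, Matrix.mul_one]
  · exact D.Theta_Ugl_mem As hsa l hl l' hl'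

theorem Pm_transpose (σ : Equiv.Perm (Fin t)) :
    (Pm σ : Matrix (Fin t → Fin k) (Fin t → Fin k) F)ᵀ = Pm σ⁻¹ := by
  ext x y
  rw [Matrix.transpose_apply, Pm_apply, Pm_apply]
  apply if_congr _ rfl rfl
  constructor
  · intro h
    rw [h]
    ext l
    simp
  · intro h
    rw [h]
    ext l
    simp

theorem Dat.Theta_Pgl_mem (D : Dat Q e P G c) (σ : Equiv.Perm (Fin t)) :
    Theta e P (Pgl σ) ∈ isometryGroup F Q := by
  apply Theta_mem_isom
  intro v
  rw [coe_Pgl]
  apply D.isom_of
  · have h1 : (Pm σ : Matrix (Fin t → Fin k) (Fin t → Fin k) F) * T (fun _ => G) =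
        T (fun _ => G) * Pm σ := Pm_mul_T σ (fun _ => G)
    rw [Pm_transpose, Matrix.mul_assoc, ← h1, ← Matrix.mul_assoc, Pm_mul, inv_mul_cancel, Pm_one,
      Matrix.one_mul]
  · intro a
    have h1 : (Pm σ : Matrix (Fin t → Fin k) (Fin t → Fin k) F) *ᵥ Pi.single a 1 =
        Pi.single (a ∘ σ.symm) 1 := by
      rw [Pm_mulVec]
      ext x
      simp only [Pi.single_apply]
      apply if_congr _ rfl rfl
      constructor
      · intro h
        rw [← h]
        ext l
        simp
      · intro h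
        rw [h]
        ext l
        simp
    rw [h1]
    exact D.quad_single _

/-- an isometry preserves the tensor power of the Gram matrix -/
theorem Dat.gram_of_isom (D : Dat Q e P G c) (x : GL (Fin t → Fin k) F)
    (hx : Theta e P x ∈ isometryGroup F Q) :
    (x : Matrix (Fin t → Fin k) (Fin t → Fin k) F)ᵀ * T (fun _ => G) *
      (x : Matrix (Fin t → Fin k) (Fin t → Fin k) F) = T (fun _ => G) := by
  apply eq_of_bil_eq
  intro u v
  rw [← bil_mulVec]
  have h1 := D.polar ((x : Matrix (Fin t → Fin k) (Fin t → Fin k) F) *ᵥ u)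
    ((x : Matrix (Fin t → Fin k) (Fin t → Fin k) F) *ᵥ v)
  have h2 := D.polar u v
  have h3 : QuadraticMap.polar Q
      (emb e P ((x : Matrix (Fin t → Fin k) (Fin t → Fin k) F) *ᵥ u))
      (emb e P ((x : Matrix (Fin t → Fin k) (Fin t → Fin k) F) *ᵥ v)) =
      QuadraticMap.polar Q (emb e P u) (emb e P v) := by
    unfold QuadraticMap.polar
    rw [← emb_add, ← Matrix.mulVec_add, isom_of_Theta_mem e P Q x hx, isom_of_Theta_mem e P Q x hx,
      isom_of_Theta_mem e P Q x hx, emb_add]
  rw [h1, h2] at h3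
  exact mul_left_cancel₀ D.c_ne h3

theorem simil_of_T_eq (Hs : Fin t → Matrix (Fin k) (Fin k) F) (G : Matrix (Fin k) (Fin k) F)
    (hG : ∃ a b, G a b ≠ 0) (h : T Hs = T (fun _ => G)) (i : Fin t) :
    ∃ μ : F, μ ≠ 0 ∧ Hs i = μ • G := by
  obtain ⟨a₀, b₀, hab⟩ := hG
  have key : ∀ c d : Fin k, Hs i c d * ∏ l ∈ Finset.univ.erase i, Hs l a₀ b₀ =
      G c d * ∏ l ∈ Finset.univ.erase i, G a₀ b₀ := by
    intro c d
    have h1 := congrFun (congrFun h (Function.update (fun _ => a₀) i c))
      (Function.update (fun _ => b₀) i d)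
    rw [T_apply, T_apply, ← Finset.mul_prod_erase Finset.univ _ (Finset.mem_univ i),
      ← Finset.mul_prod_erase Finset.univ _ (Finset.mem_univ i), Function.update_self,
      Function.update_self] at h1
    have h2 : ∀ (f : Fin t → Matrix (Fin k) (Fin k) F),
        ∏ l ∈ Finset.univ.erase i, f l (Function.update (fun _ => a₀) i c l)
          (Function.update (fun _ => b₀) i d l) = ∏ l ∈ Finset.univ.erase i, f l a₀ b₀ := by
      intro f
      refine Finset.prod_congr rfl fun l hl => ?_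
      rw [Function.update_of_ne (Finset.ne_of_mem_erase hl),
        Function.update_of_ne (Finset.ne_of_mem_erase hl)]
    rw [h2 Hs, h2 (fun _ => G)] at h1
    exact h1
  have hγ : ∏ l ∈ Finset.univ.erase i, G a₀ b₀ ≠ 0 :=
    Finset.prod_ne_zero_iff.mpr fun _ _ => hab
  have hν : ∏ l ∈ Finset.univ.erase i, Hs l a₀ b₀ ≠ 0 := by
    intro h0
    have := key a₀ b₀
    rw [h0, mul_zero] at this
    exact mul_ne_zero hab hγ this.symm
  refine ⟨(∏ l ∈ Finset.univ.erase i, G a₀ b₀) / ∏ l ∈ Finset.univ.erase i, Hs l a₀ b₀,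
    div_ne_zero hγ hν, ?_⟩
  ext c d
  rw [Matrix.smul_apply, smul_eq_mul]
  have := key c d
  field_simp
  linear_combination this

/-- the elements of the stabiliser of the tensor decomposition lying in `Ω` normalise the span -/
theorem Dat.mem_normL_of_mem (D : Dat Q e P G c) (hG : ∃ a b, G a b ≠ 0)
    (L0 : Submodule F (Matrix (Fin k) (Fin k) F))
    (hP3 : ∀ g : GL (Fin k) F, (∃ μ : F, μ ≠ 0 ∧
      (g : Matrix (Fin k) (Fin k) F)ᵀ * G * (g : Matrix (Fin k) (Fin k) F) = μ • G) →
      ∀ A ∈ L0, (g : Matrix (Fin k) (Fin k) F) * A *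
          ((g⁻¹ : GL (Fin k) F) : Matrix (Fin k) (Fin k) F) ∈ L0 ∧
        ((g⁻¹ : GL (Fin k) F) : Matrix (Fin k) (Fin k) F) * A *
          (g : Matrix (Fin k) (Fin k) F) ∈ L0)
    {x : GL (Fin t → Fin k) F} (hx : x ∈ Cfsg.Geo.tensorWreathStandard k t F)
    (hΘ : Theta e P x ∈ Cfsg.Geo.omegaGL Q) : x ∈ normL L0 t := by
  obtain ⟨gs, σ, rfl⟩ := exists_normal_form hx
  have h1 : Theta e P (Tgl gs * Pgl σ) ∈ isometryGroup F Q := omegaGL_le_isom' Q hΘ
  have h2 : Theta e P (Tgl gs) ∈ isometryGroup F Q := by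
    have : Theta e P (Tgl gs) = Theta e P (Tgl gs * Pgl σ) * (Theta e P (Pgl σ))⁻¹ := by
      rw [map_mul, mul_inv_cancel_right]
    rw [this]
    exact Subgroup.mul_mem _ h1 (Subgroup.inv_mem _ (D.Theta_Pgl_mem σ))
  have h3 := D.gram_of_isom _ h2
  rw [coe_Tgl, T_transpose, T_mul, T_mul] at h3
  refine Subgroup.mul_mem _ (Tgl_mem_normL L0 gs fun i A hA => ?_) (Pgl_mem_normL L0 σ)
  exact hP3 (gs i) (simil_of_T_eq _ G hG h3 i) A hA

/-- a criterion for a unipotent element not to normalise the span -/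
theorem not_mem_normL_of (h2 : (2 : F) = 0) (L0 : Submodule F (Matrix (Fin k) (Fin k) F))
    (N : Matrix (Fin t → Fin k) (Fin t → Fin k) F) (hN : N * N = 0) (i : Fin t)
    (Z : Matrix (Fin k) (Fin k) F) (hZ : Z ∈ L0) (x y : Fin t → Fin k) (j l : Fin t)
    (hjl : j ≠ l) (hj : x j ≠ y j) (hl : x l ≠ y l)
    (hR : (N * loc i Z + loc i Z * N + N * loc i Z * N) x y ≠ 0) :
    Ugl h2 N hN ∉ normL L0 t := by
  intro hmem
  have h1 := ((mem_normL_iff L0 _).mp hmem (loc i Z) (loc_mem_Lsp L0 i hZ)).1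
  rw [coe_Ugl, coe_Ugl_inv, Ugl_conj] at h1
  have h3 : N * loc i Z + loc i Z * N + N * loc i Z * N ∈ Lsp L0 t := by
    have := Submodule.sub_mem _ h1 (loc_mem_Lsp L0 i hZ)
    rwa [add_sub_cancel_left] at this
  exact hR (Lsp_local L0 h3 hjl hj hl)

theorem R_formula (As : Fin t → Matrix (Fin k) (Fin k) F) (i l : Fin t) (hli : l ≠ i)
    (hl : As l * As l = 0) (Z : Matrix (Fin k) (Fin k) F) :
    T As * loc i Z + loc i Z * T As + T As * loc i Z * T As =
      T (Function.update As i (As i * Z + Z * As i)) := by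
  have e2 : T As * loc i Z * T As = 0 := by
    rw [T_mul_loc, T_mul]
    apply T_eq_zero_of _ l
    rw [Function.update_of_ne hli]
    exact hl
  rw [e2, add_zero, T_mul_loc, loc_mul_T, ← T_update_add]

end data

end Cfsg.Agent.Lib.Helper5.SpinWr
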