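import Mathlib
import Cfsg.Prelude
import Cfsg.Agent.Lib.Helper5.SpinWr.Elems

set_option autoImplicit false
set_option linter.unusedSectionVars false
set_option linter.unusedVariables false
open Cfsg

/-! The normaliser of the span of local operators, intersected with `Ω`, lies strictly between
the stabiliser of the tensor decomposition and `Ω`. -/

namespace Cfsg.Agent.Lib.Helper5.SpinWr

open Matrix

variable {F : Type*} [Field F] {ι : Type} [Fintype ι] [DecidableEq ι] {k t : ℕ}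

theorem Ugl_congr (h2 : (2 : F) = 0) {N N' : Matrix (Fin t → Fin k) (Fin t → Fin k) F}
    (h : N = N') (hN : N * N = 0) (hN' : N' * N' = 0) : Ugl h2 N hN = Ugl h2 N' hN' := by
  subst h
  rfl

theorem exists_between (Q : (ι → F) → F) (e : ι ≃ (Fin t → Fin k)) (P : GL ι F)
    (L0 : Submodule F (Matrix (Fin k) (Fin k) F))
    (hH : ∀ x ∈ Cfsg.Geo.tensorWreathStandard k t F, Theta e P x ∈ Cfsg.Geo.omegaGL Q →
      x ∈ normL L0 t)
    (u g : GL (Fin t → Fin k) F) (hu1 : u ∈ normL L0 t) (hu2 : Theta e P u ∈ Cfsg.Geo.omegaGL Q)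
    (hu3 : u ∉ Cfsg.Geo.tensorWreathStandard k t F)
    (hg1 : Theta e P g ∈ Cfsg.Geo.omegaGL Q) (hg2 : g ∉ normL L0 t) :
    ∃ K : Subgroup (GL ι F), Cfsg.Geo.tensorWreathSubgroup k t e P ⊓ Cfsg.Geo.omegaGL Q < K ∧
      K < Cfsg.Geo.omegaGL Q := by
  refine ⟨(normL L0 t).map (Theta e P).toMonoidHom ⊓ Cfsg.Geo.omegaGL Q, ?_, ?_⟩
  · apply lt_of_le_of_ne
    · intro y hy
      obtain ⟨hy1, hy2⟩ := Subgroup.mem_inf.mp hy
      obtain ⟨x, hx, rfl⟩ := (mem_tws_iff e P y).mp hy1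
      exact Subgroup.mem_inf.mpr ⟨Subgroup.mem_map.mpr ⟨x, hH x hx hy2, rfl⟩, hy2⟩
    · intro heq
      have h1 : Theta e P u ∈ (normL L0 t).map (Theta e P).toMonoidHom ⊓ Cfsg.Geo.omegaGL Q :=
        Subgroup.mem_inf.mpr ⟨Subgroup.mem_map.mpr ⟨u, hu1, rfl⟩, hu2⟩
      rw [← heq] at h1
      obtain ⟨x, hx, hxu⟩ := (mem_tws_iff e P _).mp (Subgroup.mem_inf.mp h1).1
      have : x = u := (Theta e P).injective hxu
      rw [this] at hx
      exact hu3 hx
  · apply lt_of_le_of_ne inf_le_right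
    intro heq
    rw [← heq] at hg1
    obtain ⟨y, hy, hyg⟩ := Subgroup.mem_map.mp (Subgroup.mem_inf.mp hg1).1
    have : y = g := (Theta e P).injective hyg
    rw [this] at hy
    exact hg2 hy

end Cfsg.Agent.Lib.Helper5.SpinWr
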