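import Mathlib
import Cfsg.Prelude
import Cfsg.Agent.Lib.Helper5.SpinWr.Between

set_option autoImplicit false
set_option linter.unusedSectionVars false
set_option linter.unusedVariables false
open Cfsg

/-! The case of tensor factors of dimension two. -/

namespace Cfsg.Agent.Lib.Helper5.SpinWr.Two

open Matrix Cfsg.Agent.Lib.Helper5.SpinWr

variable {F : Type*} [Field F]

/-- the standard alternating Gram matrix in characteristic two -/
def G2 : Matrix (Fin 2) (Fin 2) F := !![0, 1; 1, 0]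
/-- a nilpotent matrix -/
def E12 : Matrix (Fin 2) (Fin 2) F := !![0, 1; 0, 0]
/-- a unipotent matrix -/
def D21 : Matrix (Fin 2) (Fin 2) F := !![1, 0; 1, 1]

/-- the matrices of trace zero -/
def sl2 : Submodule F (Matrix (Fin 2) (Fin 2) F) :=
  LinearMap.ker (Matrix.traceLinearMap (Fin 2) F F)

theorem mem_sl2 (A : Matrix (Fin 2) (Fin 2) F) : A ∈ sl2 ↔ A 1 1 = - A 0 0 := by
  unfold sl2
  rw [LinearMap.mem_ker, Matrix.traceLinearMap_apply, Matrix.trace_fin_two]
  constructor <;> intro h <;> linear_combination h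

theorem one_add_one (h2 : (2 : F) = 0) : (1 : F) + 1 = 0 := by
  rw [one_add_one_eq_two]
  exact h2

theorem E12_sq : E12 * E12 = (0 : Matrix (Fin 2) (Fin 2) F) := by
  ext i j
  fin_cases i <;> fin_cases j <;> simp [E12, Matrix.mul_apply, Fin.sum_univ_two]

theorem D21_sq (h2 : (2 : F) = 0) : D21 * D21 = (1 : Matrix (Fin 2) (Fin 2) F) := by
  ext i j
  fin_cases i <;> fin_cases j <;>
    simp [D21, Matrix.mul_apply, Fin.sum_univ_two, Matrix.one_apply, one_add_one h2]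

theorem E12_mem : (E12 : Matrix (Fin 2) (Fin 2) F) ∈ sl2 := by
  rw [mem_sl2]
  simp [E12]

theorem D21_mem (h2 : (2 : F) = 0) : (D21 : Matrix (Fin 2) (Fin 2) F) ∈ sl2 := by
  rw [mem_sl2]
  simp only [D21, Matrix.of_apply, Matrix.cons_val_zero, Matrix.cons_val_one]
  linear_combination one_add_one h2

theorem hP2 : ∀ A ∈ (sl2 : Submodule F (Matrix (Fin 2) (Fin 2) F)), ∀ C ∈ (sl2 : Submodule F _),
    ∃ s : F, A * C + C * A = s • 1 := by
  intro A hA C hC
  rw [mem_sl2] at hA hC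
  refine ⟨(A * C + C * A) 0 0, ?_⟩
  ext i j
  fin_cases i <;> fin_cases j <;>
    simp [Matrix.mul_apply, Fin.sum_univ_two, hA, hC] <;> ring

theorem hP2' : ∀ A ∈ (sl2 : Submodule F (Matrix (Fin 2) (Fin 2) F)), ∃ s : F, A * A = s • 1 := by
  intro A hA
  rw [mem_sl2] at hA
  refine ⟨(A * A) 0 0, ?_⟩
  ext i j
  fin_cases i <;> fin_cases j <;>
    simp [Matrix.mul_apply, Fin.sum_univ_two, hA] <;> ring

theorem hP3 (G : Matrix (Fin 2) (Fin 2) F) : ∀ g : GL (Fin 2) F, (∃ μ : F, μ ≠ 0 ∧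
      (g : Matrix (Fin 2) (Fin 2) F)ᵀ * G * (g : Matrix (Fin 2) (Fin 2) F) = μ • G) →
      ∀ A ∈ (sl2 : Submodule F (Matrix (Fin 2) (Fin 2) F)),
        (g : Matrix (Fin 2) (Fin 2) F) * A *
          ((g⁻¹ : GL (Fin 2) F) : Matrix (Fin 2) (Fin 2) F) ∈ (sl2 : Submodule F _) ∧
        ((g⁻¹ : GL (Fin 2) F) : Matrix (Fin 2) (Fin 2) F) * A *
          (g : Matrix (Fin 2) (Fin 2) F) ∈ (sl2 : Submodule F _) := by
  intro g _ A hA
  unfold sl2 at hA ⊢
  rw [LinearMap.mem_ker, Matrix.traceLinearMap_apply] at hA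
  constructor
  · rw [LinearMap.mem_ker, Matrix.traceLinearMap_apply, Matrix.trace_mul_cycle, Units.inv_mul,
      Matrix.one_mul, hA]
  · rw [LinearMap.mem_ker, Matrix.traceLinearMap_apply, Matrix.trace_mul_cycle, Units.mul_inv,
      Matrix.one_mul, hA]

theorem G2_symm : (G2 : Matrix (Fin 2) (Fin 2) F)ᵀ = G2 := by
  ext i j
  fin_cases i <;> fin_cases j <;> simp [G2]

theorem G2_alt (a : Fin 2) : (G2 : Matrix (Fin 2) (Fin 2) F) a a = 0 := by
  fin_cases a <;> simp [G2]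

theorem G2_ne : ∃ a b, (G2 : Matrix (Fin 2) (Fin 2) F) a b ≠ 0 :=
  ⟨0, 1, by simp [G2]⟩

theorem E12_sa : (E12 : Matrix (Fin 2) (Fin 2) F)ᵀ * G2 = G2 * E12 := by
  ext i j
  fin_cases i <;> fin_cases j <;> simp [E12, G2, Matrix.mul_apply, Fin.sum_univ_two]

theorem one_sa : (1 : Matrix (Fin 2) (Fin 2) F)ᵀ * G2 = G2 * 1 := by
  rw [Matrix.transpose_one, Matrix.one_mul, Matrix.mul_one]

theorem D21_symp (h2 : (2 : F) = 0) :
    (D21 : Matrix (Fin 2) (Fin 2) F)ᵀ * G2 * D21 = G2 := by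
  ext i j
  fin_cases i <;> fin_cases j <;>
    simp [D21, G2, Matrix.mul_apply, Fin.sum_univ_two, one_add_one h2]

theorem conj_E12 (h2 : (2 : F) = 0) :
    (D21 : Matrix (Fin 2) (Fin 2) F) * E12 * D21 + E12 = D21 := by
  ext i j
  fin_cases i <;> fin_cases j <;>
    simp [D21, E12, Matrix.mul_apply, Fin.sum_univ_two, one_add_one h2]

theorem anti_D21_E12 (h2 : (2 : F) = 0) :
    (D21 : Matrix (Fin 2) (Fin 2) F) * E12 + E12 * D21 = 1 := by
  ext i j
  fin_cases i <;> fin_cases j <;>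
    simp [D21, E12, Matrix.mul_apply, Fin.sum_univ_two, one_add_one h2, Matrix.one_apply]

/-- the symplectic unipotent element -/
def h0 (h2 : (2 : F) = 0) : GL (Fin 2) F := ⟨D21, D21, D21_sq h2, D21_sq h2⟩

theorem coe_h0 (h2 : (2 : F) = 0) : ((h0 h2 : GL (Fin 2) F) : Matrix (Fin 2) (Fin 2) F) = D21 := rfl

theorem coe_h0_inv (h2 : (2 : F) = 0) :
    (((h0 h2)⁻¹ : GL (Fin 2) F) : Matrix (Fin 2) (Fin 2) F) = D21 := rfl

theorem loc_mul_loc_apply {k t : ℕ} (i j : Fin t) (hij : i ≠ j) (A B : Matrix (Fin k) (Fin k) F)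
    (x y : Fin t → Fin k) (h : ∀ m, m ≠ i → m ≠ j → x m = y m) :
    (loc i A * loc j B) x y = A (x i) (y i) * B (x j) (y j) := by
  rw [loc_mul_loc i j hij, T_apply, Finset.prod_eq_mul i j hij]
  · rw [Function.update_of_ne hij, Function.update_self, Function.update_self]
  · intro m _ hm
    rw [Function.update_of_ne hm.2, Function.update_of_ne hm.1, h m hm.1 hm.2, Matrix.one_apply_eq]
  · intro h
    exact absurd (Finset.mem_univ i) h
  · intro h
    exact absurd (Finset.mem_univ j) h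

end Cfsg.Agent.Lib.Helper5.SpinWr.Two
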