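import Mathlib
import Cfsg.Prelude
import Cfsg.Agent.Lib.Helper5.SpinWr.Two

set_option autoImplicit false
set_option linter.unusedSectionVars false
set_option linter.unusedVariables false
set_option linter.unusedSimpArgs false
set_option maxHeartbeats 1000000
open Cfsg

/-! The case of tensor factors of dimension four: the five-dimensional space of `4 × 4` matrices
playing the role of the trace-zero `2 × 2` matrices. -/

namespace Cfsg.Agent.Lib.Helper5.SpinWr.Four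

open Matrix Cfsg.Agent.Lib.Helper5.SpinWr

variable {F : Type*} [Field F]

/-- the standard alternating Gram matrix in characteristic two -/
def G4 : Matrix (Fin 4) (Fin 4) F := !![0, 1, 0, 0; 1, 0, 0, 0; 0, 0, 0, 1; 0, 0, 1, 0]

/-- the general member of the five-dimensional space -/
def mk4 (l a b c d : F) : Matrix (Fin 4) (Fin 4) F :=
  !![l, 0, c, a; 0, l, b, d; d, a, l, 0; b, c, 0, l]

/-- a nilpotent member -/
def X1 : Matrix (Fin 4) (Fin 4) F := mk4 0 1 0 0 0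
/-- a nilpotent member -/
def X2 : Matrix (Fin 4) (Fin 4) F := mk4 0 0 0 1 0
/-- a unipotent member -/
def H4 : Matrix (Fin 4) (Fin 4) F := mk4 1 0 1 0 0
/-- a self-adjoint nilpotent matrix outside the space -/
def D4 : Matrix (Fin 4) (Fin 4) F := !![0, 1, 0, 0; 0, 0, 0, 0; 0, 0, 0, 0; 0, 0, 0, 0]
/-- its commutator image -/
def N4 : Matrix (Fin 4) (Fin 4) F := !![0, 0, 1, 0; 0, 0, 0, 0; 0, 0, 0, 0; 0, 1, 1, 0]

theorem mk4_sq (h2 : (2 : F) = 0) (l a b c d : F) :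
    mk4 l a b c d * mk4 l a b c d = (l * l + a * b + c * d) • (1 : Matrix (Fin 4) (Fin 4) F) := by
  ext i j
  fin_cases i <;> fin_cases j <;>
    simp [mk4, Matrix.mul_apply, Fin.sum_univ_four, Matrix.one_apply] <;>
    (try ring_nf) <;> (try simp [h2])

theorem mk4_add (l a b c d l' a' b' c' d' : F) :
    mk4 l a b c d + mk4 l' a' b' c' d' = mk4 (l + l') (a + a') (b + b') (c + c') (d + d') := by
  ext i j
  fin_cases i <;> fin_cases j <;> simp [mk4]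

theorem mk4_smul (r l a b c d : F) :
    r • mk4 l a b c d = mk4 (r * l) (r * a) (r * b) (r * c) (r * d) := by
  ext i j
  fin_cases i <;> fin_cases j <;> simp [mk4]

theorem mk4_zero : mk4 (0 : F) 0 0 0 0 = 0 := by
  ext i j
  fin_cases i <;> fin_cases j <;> simp [mk4]

/-- the five-dimensional space -/
def L4 : Submodule F (Matrix (Fin 4) (Fin 4) F) where
  carrier := {A | ∃ l a b c d : F, A = mk4 l a b c d}
  add_mem' := by
    rintro _ _ ⟨l, a, b, c, d, rfl⟩ ⟨l', a', b', c', d', rfl⟩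
    exact ⟨_, _, _, _, _, mk4_add _ _ _ _ _ _ _ _ _ _⟩
  zero_mem' := ⟨0, 0, 0, 0, 0, mk4_zero.symm⟩
  smul_mem' := by
    rintro r _ ⟨l, a, b, c, d, rfl⟩
    exact ⟨_, _, _, _, _, mk4_smul _ _ _ _ _ _⟩

theorem mem_L4 (A : Matrix (Fin 4) (Fin 4) F) :
    A ∈ (L4 : Submodule F _) ↔ ∃ l a b c d : F, A = mk4 l a b c d := Iff.rfl

theorem X1_mem : (X1 : Matrix (Fin 4) (Fin 4) F) ∈ (L4 : Submodule F _) := ⟨_, _, _, _, _, rfl⟩
theorem X2_mem : (X2 : Matrix (Fin 4) (Fin 4) F) ∈ (L4 : Submodule F _) := ⟨_, _, _, _, _, rfl⟩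
theorem H4_mem : (H4 : Matrix (Fin 4) (Fin 4) F) ∈ (L4 : Submodule F _) := ⟨_, _, _, _, _, rfl⟩

theorem hP2' (h2 : (2 : F) = 0) :
    ∀ A ∈ (L4 : Submodule F (Matrix (Fin 4) (Fin 4) F)), ∃ s : F, A * A = s • 1 := by
  rintro _ ⟨l, a, b, c, d, rfl⟩
  exact ⟨_, mk4_sq h2 l a b c d⟩

theorem hP2 (h2 : (2 : F) = 0) :
    ∀ A ∈ (L4 : Submodule F (Matrix (Fin 4) (Fin 4) F)), ∀ C ∈ (L4 : Submodule F _),
      ∃ s : F, A * C + C * A = s • 1 := by
  intro A hA C hC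
  obtain ⟨s1, h1⟩ := hP2' h2 A hA
  obtain ⟨s2, h2'⟩ := hP2' h2 C hC
  obtain ⟨s3, h3⟩ := hP2' h2 (A + C) (Submodule.add_mem _ hA hC)
  refine ⟨s3 - s1 - s2, ?_⟩
  have e : A * C + C * A = (A + C) * (A + C) - A * A - C * C := by noncomm_ring
  rw [e, h1, h2', h3, sub_smul, sub_smul]

theorem X1_sq : X1 * X1 = (0 : Matrix (Fin 4) (Fin 4) F) := by
  ext i j
  fin_cases i <;> fin_cases j <;> simp [X1, mk4, Matrix.mul_apply, Fin.sum_univ_four]

theorem H4_sq (h2 : (2 : F) = 0) : H4 * H4 = (1 : Matrix (Fin 4) (Fin 4) F) := by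
  have := mk4_sq h2 (1 : F) 0 1 0 0
  rw [show H4 = mk4 (1 : F) 0 1 0 0 from rfl, this]
  simp

theorem G4_symm : (G4 : Matrix (Fin 4) (Fin 4) F)ᵀ = G4 := by
  ext i j
  fin_cases i <;> fin_cases j <;> simp [G4]

theorem G4_alt (a : Fin 4) : (G4 : Matrix (Fin 4) (Fin 4) F) a a = 0 := by
  fin_cases a <;> simp [G4]

theorem G4_ne : ∃ a b, (G4 : Matrix (Fin 4) (Fin 4) F) a b ≠ 0 :=
  ⟨0, 1, by simp [G4]⟩

theorem G4_sq : G4 * G4 = (1 : Matrix (Fin 4) (Fin 4) F) := by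
  ext i j
  fin_cases i <;> fin_cases j <;> simp [G4, Matrix.mul_apply, Fin.sum_univ_four]

theorem mk4_sa (l a b c d : F) : (mk4 l a b c d)ᵀ * G4 = G4 * mk4 l a b c d := by
  ext i j
  fin_cases i <;> fin_cases j <;> simp [mk4, G4, Matrix.mul_apply, Fin.sum_univ_four]

theorem X1_sa : (X1 : Matrix (Fin 4) (Fin 4) F)ᵀ * G4 = G4 * X1 := mk4_sa _ _ _ _ _

theorem D4_sa : (D4 : Matrix (Fin 4) (Fin 4) F)ᵀ * G4 = G4 * D4 := by
  ext i j
  fin_cases i <;> fin_cases j <;> simp [D4, G4, Matrix.mul_apply, Fin.sum_univ_four]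

theorem one_sa : (1 : Matrix (Fin 4) (Fin 4) F)ᵀ * G4 = G4 * 1 := by
  rw [Matrix.transpose_one, Matrix.one_mul, Matrix.mul_one]

theorem G4X1_diag (a : Fin 4) :
    ((G4 : Matrix (Fin 4) (Fin 4) F) * (X1 : Matrix (Fin 4) (Fin 4) F) :
      Matrix (Fin 4) (Fin 4) F) a a = 0 := by
  fin_cases a <;> simp [X1, mk4, G4, Matrix.mul_apply, Fin.sum_univ_four]

theorem H4_symp (h2 : (2 : F) = 0) :
    (H4 : Matrix (Fin 4) (Fin 4) F)ᵀ * G4 * H4 = G4 := by
  ext i j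
  fin_cases i <;> fin_cases j <;>
    simp [H4, mk4, G4, Matrix.mul_apply, Fin.sum_univ_four, Two.one_add_one h2]

theorem conj_X1 (h2 : (2 : F) = 0) :
    (H4 : Matrix (Fin 4) (Fin 4) F) * X1 * H4 + X1 = H4 := by
  ext i j
  fin_cases i <;> fin_cases j <;>
    simp [H4, X1, mk4, Matrix.mul_apply, Fin.sum_univ_four, Two.one_add_one h2]

theorem conj_D4 (h2 : (2 : F) = 0) :
    (H4 : Matrix (Fin 4) (Fin 4) F) * D4 * H4 + D4 = N4 := by
  ext i j
  fin_cases i <;> fin_cases j <;>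
    simp [H4, D4, N4, mk4, Matrix.mul_apply, Fin.sum_univ_four, Two.one_add_one h2]

theorem anti_N4_X1 (h2 : (2 : F) = 0) :
    (N4 : Matrix (Fin 4) (Fin 4) F) * X1 + X1 * N4 = X2 := by
  ext i j
  fin_cases i <;> fin_cases j <;>
    simp [N4, X1, X2, mk4, Matrix.mul_apply, Fin.sum_univ_four, Two.one_add_one h2]

/-- the symplectic unipotent element -/
def h0 (h2 : (2 : F) = 0) : GL (Fin 4) F := ⟨H4, H4, H4_sq h2, H4_sq h2⟩

theorem coe_h0 (h2 : (2 : F) = 0) : ((h0 h2 : GL (Fin 4) F) : Matrix (Fin 4) (Fin 4) F) = H4 := rfl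

theorem coe_h0_inv (h2 : (2 : F) = 0) :
    (((h0 h2)⁻¹ : GL (Fin 4) F) : Matrix (Fin 4) (Fin 4) F) = H4 := rfl

end Cfsg.Agent.Lib.Helper5.SpinWr.Four
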