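import Mathlib
import Cfsg.Prelude
import Cfsg.Agent.Lib.Helper5.SpinWr.Four

set_option autoImplicit false
set_option linter.unusedSectionVars false
set_option linter.unusedVariables false
set_option linter.unusedSimpArgs false
set_option maxHeartbeats 1000000
open Cfsg

/-! The five-dimensional space is normalised by the symplectic similitudes. -/

namespace Cfsg.Agent.Lib.Helper5.SpinWr.Four

open Matrix Cfsg.Agent.Lib.Helper5.SpinWr

variable {F : Type*} [Field F]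

/-- alternating matrices: the associated quadratic form vanishes -/
def altP (M : Matrix (Fin 4) (Fin 4) F) : Prop := ∀ x : Fin 4 → F, bil M x x = 0

theorem altP_congr (M h : Matrix (Fin 4) (Fin 4) F) (hM : altP M) : altP (hᵀ * M * h) := by
  intro x
  rw [← bil_mulVec]
  exact hM _

theorem altP_smul (μ : F) (M : Matrix (Fin 4) (Fin 4) F) (hM : altP M) : altP (μ • M) := by
  intro x
  have h1 := hM x
  unfold bil at h1 ⊢
  rw [Matrix.smul_mulVec, dotProduct_smul, h1, smul_zero]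

theorem altP_diag (M : Matrix (Fin 4) (Fin 4) F) (hM : altP M) (i : Fin 4) : M i i = 0 := by
  rw [← bil_single M i i]
  exact hM _

theorem bil_add_add (M : Matrix (Fin 4) (Fin 4) F) (x y : Fin 4 → F) :
    bil M (x + y) (x + y) = bil M x x + bil M x y + bil M y x + bil M y y := by
  unfold bil
  rw [Matrix.mulVec_add, add_dotProduct, dotProduct_add, dotProduct_add]
  ring

theorem altP_symm (M : Matrix (Fin 4) (Fin 4) F) (hM : altP M) (i j : Fin 4) :
    M i j + M j i = 0 := by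
  have h := hM (Pi.single i 1 + Pi.single j 1)
  rw [bil_add_add, hM, hM, bil_single, bil_single] at h
  linear_combination h

theorem mk4_altP (h2 : (2 : F) = 0) (l a b c d : F) : altP (G4 * mk4 l a b c d) := by
  intro x
  unfold bil
  simp [dotProduct, Matrix.mulVec, Fin.sum_univ_four, G4, mk4, Matrix.mul_apply]
  ring_nf
  simp [h2]

theorem eq_of_add_eq_zero (h2 : (2 : F) = 0) {x y : F} (h : x + y = 0) : x = y := by
  linear_combination h - y * h2

theorem mem_L4_of (h2 : (2 : F) = 0) (A : Matrix (Fin 4) (Fin 4) F) (halt : altP (G4 * A))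
    (s : F) (hs : A * A = s • 1) : A ∈ (L4 : Submodule F _) := by
  have e00 := altP_diag _ halt 0
  have e11 := altP_diag _ halt 1
  have e22 := altP_diag _ halt 2
  have e33 := altP_diag _ halt 3
  have s01 := altP_symm _ halt 0 1
  have s23 := altP_symm _ halt 2 3
  have s02 := altP_symm _ halt 0 2
  have s03 := altP_symm _ halt 0 3
  have s12 := altP_symm _ halt 1 2
  have s13 := altP_symm _ halt 1 3
  simp [G4, Matrix.mul_apply, Fin.sum_univ_four] at e00 e11 e22 e33 s01 s23 s02 s03 s12 s13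
  have d00 := congrFun (congrFun hs 0) 0
  have d22 := congrFun (congrFun hs 2) 2
  simp [Matrix.mul_apply, Fin.sum_univ_four] at d00 d22
  have r11 : A 1 1 = A 0 0 := eq_of_add_eq_zero h2 s01
  have r33 : A 3 3 = A 2 2 := eq_of_add_eq_zero h2 s23
  have r12 : A 1 2 = A 3 0 := eq_of_add_eq_zero h2 s02
  have r13 : A 1 3 = A 2 0 := eq_of_add_eq_zero h2 s03
  have r31 : A 0 2 = A 3 1 := eq_of_add_eq_zero h2 s12
  have r21 : A 0 3 = A 2 1 := eq_of_add_eq_zero h2 s13
  have hsq : A 0 0 * A 0 0 = A 2 2 * A 2 2 := by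
    rw [e11, e00] at d00
    rw [e33, e22, ← r21, r12] at d22
    linear_combination d00 - d22
  have hpr : (A 0 0 + A 2 2) * (A 0 0 + A 2 2) = 0 := by
    linear_combination hsq + (A 2 2 * A 2 2 + A 0 0 * A 2 2) * h2
  have r22 : A 2 2 = A 0 0 := (eq_of_add_eq_zero h2 (mul_self_eq_zero.mp hpr)).symm
  refine ⟨A 0 0, A 0 3, A 3 0, A 0 2, A 2 0, ?_⟩
  ext i j
  fin_cases i <;> fin_cases j <;>
    simp [mk4, e00, e11, e22, e33, r11, r33, r12, r13, r22, ← r31, ← r21]

theorem L4_conj (h2 : (2 : F) = 0) (g : GL (Fin 4) F) (μ : F)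
    (hg : (g : Matrix (Fin 4) (Fin 4) F)ᵀ * G4 * (g : Matrix (Fin 4) (Fin 4) F) = μ • G4)
    (A : Matrix (Fin 4) (Fin 4) F) (hA : A ∈ (L4 : Submodule F _)) :
    (g : Matrix (Fin 4) (Fin 4) F) * A *
      ((g⁻¹ : GL (Fin 4) F) : Matrix (Fin 4) (Fin 4) F) ∈ (L4 : Submodule F _) := by
  obtain ⟨l, a, b, c, d, rfl⟩ := hA
  set h : Matrix (Fin 4) (Fin 4) F := ((g⁻¹ : GL (Fin 4) F) : Matrix (Fin 4) (Fin 4) F) with hh
  have hgh : (g : Matrix (Fin 4) (Fin 4) F) * h = 1 := Units.mul_inv g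
  have hhg : h * (g : Matrix (Fin 4) (Fin 4) F) = 1 := Units.inv_mul g
  have e1 : G4 * (g : Matrix (Fin 4) (Fin 4) F) = μ • (hᵀ * G4) := by
    have : hᵀ * ((g : Matrix (Fin 4) (Fin 4) F)ᵀ * G4 * (g : Matrix (Fin 4) (Fin 4) F)) =
        G4 * (g : Matrix (Fin 4) (Fin 4) F) := by
      rw [← Matrix.mul_assoc, ← Matrix.mul_assoc, ← Matrix.transpose_mul, hgh,
        Matrix.transpose_one, Matrix.one_mul]
    rw [← this, hg, Matrix.mul_smul]
  have halt : altP (G4 * ((g : Matrix (Fin 4) (Fin 4) F) * mk4 l a b c d * h)) := by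
    have e2 : G4 * ((g : Matrix (Fin 4) (Fin 4) F) * mk4 l a b c d * h) =
        μ • (hᵀ * (G4 * mk4 l a b c d) * h) := by
      rw [← Matrix.mul_assoc, ← Matrix.mul_assoc, e1, Matrix.smul_mul, Matrix.smul_mul]
      simp only [Matrix.mul_assoc]
    rw [e2]
    exact altP_smul _ _ (altP_congr _ _ (mk4_altP h2 l a b c d))
  have hsq : (g : Matrix (Fin 4) (Fin 4) F) * mk4 l a b c d * h *
      ((g : Matrix (Fin 4) (Fin 4) F) * mk4 l a b c d * h) =
      (l * l + a * b + c * d) • (1 : Matrix (Fin 4) (Fin 4) F) := by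
    have e3 : (g : Matrix (Fin 4) (Fin 4) F) * mk4 l a b c d * h *
        ((g : Matrix (Fin 4) (Fin 4) F) * mk4 l a b c d * h) =
        (g : Matrix (Fin 4) (Fin 4) F) * (mk4 l a b c d * mk4 l a b c d) * h := by
      have : (g : Matrix (Fin 4) (Fin 4) F) * mk4 l a b c d * h *
          ((g : Matrix (Fin 4) (Fin 4) F) * mk4 l a b c d * h) =
          (g : Matrix (Fin 4) (Fin 4) F) * mk4 l a b c d * (h * (g : Matrix (Fin 4) (Fin 4) F)) *
            mk4 l a b c d * h := by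
        simp only [Matrix.mul_assoc]
      rw [this, hhg, Matrix.mul_one]
      simp only [Matrix.mul_assoc]
    rw [e3, mk4_sq h2, Matrix.mul_smul, Matrix.mul_one, Matrix.smul_mul, hgh]
  exact mem_L4_of h2 _ halt _ hsq

theorem hP3 (h2 : (2 : F) = 0) : ∀ g : GL (Fin 4) F, (∃ μ : F, μ ≠ 0 ∧
      (g : Matrix (Fin 4) (Fin 4) F)ᵀ * G4 * (g : Matrix (Fin 4) (Fin 4) F) = μ • G4) →
      ∀ A ∈ (L4 : Submodule F (Matrix (Fin 4) (Fin 4) F)),
        (g : Matrix (Fin 4) (Fin 4) F) * A *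
          ((g⁻¹ : GL (Fin 4) F) : Matrix (Fin 4) (Fin 4) F) ∈ (L4 : Submodule F _) ∧
        ((g⁻¹ : GL (Fin 4) F) : Matrix (Fin 4) (Fin 4) F) * A *
          (g : Matrix (Fin 4) (Fin 4) F) ∈ (L4 : Submodule F _) := by
  rintro g ⟨μ, hμ, hg⟩ A hA
  refine ⟨L4_conj h2 g μ hg A hA, ?_⟩
  have hinv : ((g⁻¹ : GL (Fin 4) F) : Matrix (Fin 4) (Fin 4) F)ᵀ * G4 *
      ((g⁻¹ : GL (Fin 4) F) : Matrix (Fin 4) (Fin 4) F) = μ⁻¹ • G4 := by
    set h : Matrix (Fin 4) (Fin 4) F := ((g⁻¹ : GL (Fin 4) F) : Matrix (Fin 4) (Fin 4) F) with hh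
    have hgh : (g : Matrix (Fin 4) (Fin 4) F) * h = 1 := Units.mul_inv g
    have e1 : hᵀ * ((g : Matrix (Fin 4) (Fin 4) F)ᵀ * G4 * (g : Matrix (Fin 4) (Fin 4) F)) * h =
        G4 := by
      have : hᵀ * ((g : Matrix (Fin 4) (Fin 4) F)ᵀ * G4 * (g : Matrix (Fin 4) (Fin 4) F)) * h =
          (hᵀ * (g : Matrix (Fin 4) (Fin 4) F)ᵀ) * G4 * ((g : Matrix (Fin 4) (Fin 4) F) * h) := by
        simp only [Matrix.mul_assoc]
      rw [this, ← Matrix.transpose_mul, hgh, Matrix.transpose_one, Matrix.one_mul, Matrix.mul_one]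
    rw [hg, Matrix.mul_smul, Matrix.smul_mul] at e1
    calc hᵀ * G4 * h = μ⁻¹ • (μ • (hᵀ * G4 * h)) := by
          rw [smul_smul, inv_mul_cancel₀ hμ, one_smul]
      _ = μ⁻¹ • G4 := by rw [e1]
  have := L4_conj h2 g⁻¹ μ⁻¹ hinv A hA
  rwa [inv_inv] at this

end Cfsg.Agent.Lib.Helper5.SpinWr.Four
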