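import Mathlib
import Cfsg.Prelude
import Cfsg.Agent.Lib.Helper5.SpinWr.FourInv

set_option autoImplicit false
set_option linter.unusedSectionVars false
set_option linter.unusedVariables false
set_option linter.unusedSimpArgs false
set_option maxHeartbeats 1000000
open Cfsg

/-! The case of tensor factors of dimension four: the main statement. -/

namespace Cfsg.Agent.Lib.Helper5.SpinWr.Four

open Matrix Cfsg.Agent.Lib.Helper5.SpinWr

variable {F : Type*} [Field F]

theorem exists_two {t : ℕ} (ht : 2 ≤ t) : ∃ i j : Fin t, i ≠ j :=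
  ⟨⟨0, by omega⟩, ⟨1, by omega⟩, by simp [Fin.ext_iff]⟩

theorem core {ι : Type} [Fintype ι] [DecidableEq ι] {t : ℕ} (ht : 2 ≤ t) (Q : (ι → F) → F)
    (e : ι ≃ (Fin t → Fin 4)) (P : GL ι F) (c : F)
    (D : Dat Q e P (G4 : Matrix (Fin 4) (Fin 4) F) c) :
    ∃ K : Subgroup (GL ι F), Cfsg.Geo.tensorWreathSubgroup 4 t e P ⊓ Cfsg.Geo.omegaGL Q < K ∧
      K < Cfsg.Geo.omegaGL Q := by
  classical
  have h2 := D.two
  obtain ⟨i, j, hij⟩ := exists_two ht
  -- the first element
  set Au : Fin t → Matrix (Fin 4) (Fin 4) F :=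
    fun x => if x = i then X1 else if x = j then X1 else 1 with hAu
  have hAui : Au i = X1 := by simp [hAu]
  have hAuj : Au j = X1 := by simp [hAu, hij.symm]
  have hAuo : ∀ x, x ≠ i → x ≠ j → Au x = 1 := by
    intro x h1 h2'
    simp [hAu, h1, h2']
  have hsaU : ∀ x, (Au x)ᵀ * G4 = G4 * Au x := by
    intro x
    by_cases h1 : x = i
    · rw [h1, hAui]
      exact X1_sa
    · by_cases h2' : x = j
      · rw [h2', hAuj]
        exact X1_sa
      · rw [hAuo x h1 h2']
        exact one_sa
  have hfin_u : Function.update Au i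
      (((h0 h2 : GL (Fin 4) F) : Matrix (Fin 4) (Fin 4) F) * Au i *
        (((h0 h2)⁻¹ : GL (Fin 4) F) : Matrix (Fin 4) (Fin 4) F) + Au i) =
      Function.update (Function.update (fun _ => (1 : Matrix (Fin 4) (Fin 4) F)) i H4) j X1 := by
    rw [hAui, coe_h0, coe_h0_inv, conj_X1 h2]
    funext x
    by_cases h1 : x = i
    · rw [h1, Function.update_self, Function.update_of_ne hij, Function.update_self]
    · rw [Function.update_of_ne h1]
      by_cases h2' : x = j
      · rw [h2', Function.update_self, hAuj]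
      · rw [Function.update_of_ne h2', Function.update_of_ne h1, hAuo x h1 h2']
  have hNu : T (Function.update Au i
      (((h0 h2 : GL (Fin 4) F) : Matrix (Fin 4) (Fin 4) F) * Au i *
        (((h0 h2)⁻¹ : GL (Fin 4) F) : Matrix (Fin 4) (Fin 4) F) + Au i)) *
      T (Function.update Au i
      (((h0 h2 : GL (Fin 4) F) : Matrix (Fin 4) (Fin 4) F) * Au i *
        (((h0 h2)⁻¹ : GL (Fin 4) F) : Matrix (Fin 4) (Fin 4) F) + Au i)) = 0 := by
    apply T_sq_zero _ j
    rw [hfin_u, Function.update_self]
    exact X1_sq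
  have hu2 := D.Theta_comm_mem i j j hij.symm (h0 h2) (by rw [coe_h0]; exact H4_symp h2) Au hsaU
    (by rw [hAuj]; exact X1_sq)
    (by intro a; rw [hAuj]; exact G4X1_diag a) hNu
  have eu : T (Function.update Au i
      (((h0 h2 : GL (Fin 4) F) : Matrix (Fin 4) (Fin 4) F) * Au i *
        (((h0 h2)⁻¹ : GL (Fin 4) F) : Matrix (Fin 4) (Fin 4) F) + Au i)) =
      loc i H4 * loc j X1 := by
    rw [hfin_u, loc_mul_loc i j hij]
  rw [Ugl_congr h2 eu hNu (uN_sq i j hij H4 X1 X1_sq)] at hu2
  have hu1 : Ugl h2 (loc i H4 * loc j X1) (uN_sq i j hij H4 X1 X1_sq) ∈ normL L4 t :=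
    u_mem_normL L4 h2 (hP2 h2) (hP2' h2) i j hij H4 X1 H4_mem X1_mem X1_sq
  have hu3 : Ugl h2 (loc i H4 * loc j X1) (uN_sq i j hij H4 X1 X1_sq) ∉
      Cfsg.Geo.tensorWreathStandard 4 t F := by
    intro hx
    set a : Fin t → Fin 4 := Function.update (fun _ => 0) j 3 with ha
    set b' : Fin t → Fin 4 := Function.update (fun _ => 0) i 3 with hb'
    have hsw := col_swap_of_mem_standard hx a a b' i
    have hai : a i = 0 := by rw [ha, Function.update_of_ne hij]
    have haj : a j = 3 := by rw [ha, Function.update_self]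
    have hbi : b' i = 3 := by rw [hb', Function.update_self]
    have hbj : b' j = 0 := by rw [hb', Function.update_of_ne hij.symm]
    have hM : ∀ b : Fin t → Fin 4, (∀ x, x ≠ i → x ≠ j → b x = a x) →
        ((Ugl h2 (loc i H4 * loc j X1) (uN_sq i j hij H4 X1 X1_sq) : GL (Fin t → Fin 4) F) :
          Matrix (Fin t → Fin 4) (Fin t → Fin 4) F) b a =
        (1 : Matrix (Fin t → Fin 4) (Fin t → Fin 4) F) b a +
          (H4 : Matrix (Fin 4) (Fin 4) F) (b i) (a i) * (X1 : Matrix (Fin 4) (Fin 4) F) (b j) (a j) := by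
      intro b hb
      rw [coe_Ugl, Matrix.add_apply, Two.loc_mul_loc_apply i j hij H4 X1 b a hb]
    have e1 : ((Ugl h2 (loc i H4 * loc j X1) (uN_sq i j hij H4 X1 X1_sq) :
        GL (Fin t → Fin 4) F) : Matrix (Fin t → Fin 4) (Fin t → Fin 4) F) a a = 1 := by
      rw [hM a (fun _ _ _ => rfl), Matrix.one_apply_eq, hai, haj]
      simp [H4, X1, mk4]
    have e2 : ((Ugl h2 (loc i H4 * loc j X1) (uN_sq i j hij H4 X1 X1_sq) :
        GL (Fin t → Fin 4) F) : Matrix (Fin t → Fin 4) (Fin t → Fin 4) F) b' a = 1 := by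
      have hne : b' ≠ a := by
        intro h
        have := congrFun h j
        rw [hbj, haj] at this
        exact absurd this (by decide)
      rw [hM b' (fun x h1 h2' => by
        rw [hb', ha, Function.update_of_ne h1, Function.update_of_ne h2']),
        Matrix.one_apply_ne hne, hai, haj, hbi, hbj]
      simp [H4, X1, mk4]
    have e3 : ((Ugl h2 (loc i H4 * loc j X1) (uN_sq i j hij H4 X1 X1_sq) :
        GL (Fin t → Fin 4) F) : Matrix (Fin t → Fin 4) (Fin t → Fin 4) F)
        (Function.update a i (b' i)) a = 0 := by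
      have hne : Function.update a i (b' i) ≠ a := by
        intro h
        have := congrFun h i
        rw [Function.update_self, hbi, hai] at this
        exact absurd this (by decide)
      rw [hM _ (fun x h1 h2' => by rw [Function.update_of_ne h1]),
        Matrix.one_apply_ne hne, Function.update_self, Function.update_of_ne hij.symm, hai, haj, hbi]
      simp [H4, X1, mk4]
    rw [e1, e2, e3, zero_mul, one_mul] at hsw
    exact one_ne_zero hsw
  -- the second element
  set Ag : Fin t → Matrix (Fin 4) (Fin 4) F :=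
    fun x => if x = i then D4 else if x = j then X1 else 1 with hAg
  have hAgi : Ag i = D4 := by simp [hAg]
  have hAgj : Ag j = X1 := by simp [hAg, hij.symm]
  have hAgo : ∀ x, x ≠ i → x ≠ j → Ag x = 1 := by
    intro x h1 h2'
    simp [hAg, h1, h2']
  have hsaG : ∀ x, (Ag x)ᵀ * G4 = G4 * Ag x := by
    intro x
    by_cases h1 : x = i
    · rw [h1, hAgi]
      exact D4_sa
    · by_cases h2' : x = j
      · rw [h2', hAgj]
        exact X1_sa
      · rw [hAgo x h1 h2']
        exact one_sa
  set Bg : Fin t → Matrix (Fin 4) (Fin 4) F := Function.update Ag i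
      (((h0 h2 : GL (Fin 4) F) : Matrix (Fin 4) (Fin 4) F) * Ag i *
        (((h0 h2)⁻¹ : GL (Fin 4) F) : Matrix (Fin 4) (Fin 4) F) + Ag i) with hBg
  have hBgi : Bg i = N4 := by
    rw [hBg, Function.update_self, hAgi, coe_h0, coe_h0_inv, conj_D4 h2]
  have hBgo : ∀ x, x ≠ i → Bg x = Ag x := by
    intro x h1
    rw [hBg, Function.update_of_ne h1]
  have hBgj : Bg j * Bg j = 0 := by
    rw [hBgo j hij.symm, hAgj]
    exact X1_sq
  have hNg : T Bg * T Bg = 0 := T_sq_zero _ j hBgj
  have hg1 := D.Theta_comm_mem i j j hij.symm (h0 h2) (by rw [coe_h0]; exact H4_symp h2) Ag hsaG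
    (by rw [hAgj]; exact X1_sq)
    (by intro a; rw [hAgj]; exact G4X1_diag a) hNg
  have hg2 : Ugl h2 (T Bg) hNg ∉ normL L4 t := by
    set x : Fin t → Fin 4 := fun _ => 0 with hx
    set y : Fin t → Fin 4 := Function.update (Function.update (fun _ => 0) i 2) j 3 with hy
    have hyi : y i = 2 := by rw [hy, Function.update_of_ne hij, Function.update_self]
    have hyj : y j = 3 := by rw [hy, Function.update_self]
    have hyo : ∀ z, z ≠ i → z ≠ j → y z = 0 := by
      intro z h1 h2'
      rw [hy, Function.update_of_ne h2', Function.update_of_ne h1]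
    apply not_mem_normL_of h2 L4 (T Bg) hNg i X1 X1_mem x y i j hij
    · rw [hyi]
      decide
    · rw [hyj]
      decide
    · rw [R_formula Bg i j hij.symm hBgj X1, hBgi, anti_N4_X1 h2, T_apply]
      have hone : ∏ z, (Function.update Bg i (X2 : Matrix (Fin 4) (Fin 4) F)) z (x z) (y z) = 1 := by
        apply Finset.prod_eq_one
        intro z _
        by_cases h1 : z = i
        · rw [h1, Function.update_self, hyi]
          simp [X2, mk4, hx]
        · rw [Function.update_of_ne h1, hBgo z h1]
          by_cases h2' : z = j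
          · rw [h2', hAgj, hyj]
            simp [X1, mk4, hx]
          · rw [hAgo z h1 h2', hyo z h1 h2']
            rfl
      rw [hone]
      exact one_ne_zero
  exact exists_between Q e P L4
    (fun x hx hΘ => D.mem_normL_of_mem G4_ne L4 (hP3 h2) hx hΘ) _ _ hu1 hu2 hu3 hg1 hg2

end Cfsg.Agent.Lib.Helper5.SpinWr.Four
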