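import Mathlib
import Cfsg.Prelude
import Cfsg.Agent.Lib.Helper5.SpinWr.Two

set_option autoImplicit false
set_option linter.unusedSectionVars false
set_option linter.unusedVariables false
set_option linter.unusedSimpArgs false
set_option maxHeartbeats 1000000
open Cfsg

/-! The case of tensor factors of dimension two: the main statement. -/

namespace Cfsg.Agent.Lib.Helper5.SpinWr.Two

open Matrix Cfsg.Agent.Lib.Helper5.SpinWr

variable {F : Type*} [Field F]

theorem exists_four {t : ℕ} (ht : 4 ≤ t) : ∃ i j l m : Fin t,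
    i ≠ j ∧ i ≠ l ∧ i ≠ m ∧ j ≠ l ∧ j ≠ m ∧ l ≠ m :=
  ⟨⟨0, by omega⟩, ⟨1, by omega⟩, ⟨2, by omega⟩, ⟨3, by omega⟩, by simp [Fin.ext_iff],
    by simp [Fin.ext_iff], by simp [Fin.ext_iff], by simp [Fin.ext_iff], by simp [Fin.ext_iff],
    by simp [Fin.ext_iff]⟩

theorem core {ι : Type} [Fintype ι] [DecidableEq ι] {t : ℕ} (ht : 4 ≤ t) (Q : (ι → F) → F)
    (e : ι ≃ (Fin t → Fin 2)) (P : GL ι F) (c : F)
    (D : Dat Q e P (G2 : Matrix (Fin 2) (Fin 2) F) c) :
    ∃ K : Subgroup (GL ι F), Cfsg.Geo.tensorWreathSubgroup 2 t e P ⊓ Cfsg.Geo.omegaGL Q < K ∧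
      K < Cfsg.Geo.omegaGL Q := by
  classical
  have h2 := D.two
  obtain ⟨i, j, l, m, hij, hil, him, hjl, hjm, hlm⟩ := exists_four ht
  -- the first element
  set Au : Fin t → Matrix (Fin 2) (Fin 2) F :=
    fun x => if x = i then E12 else if x = j then E12 else 1 with hAu
  have hAui : Au i = E12 := by simp [hAu]
  have hAuj : Au j = E12 := by simp [hAu, hij.symm]
  have hAuo : ∀ x, x ≠ i → x ≠ j → Au x = 1 := by
    intro x h1 h2'
    simp [hAu, h1, h2']
  have hsaU : ∀ x, (Au x)ᵀ * G2 = G2 * Au x := by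
    intro x
    by_cases h1 : x = i
    · rw [h1, hAui]
      exact E12_sa
    · by_cases h2' : x = j
      · rw [h2', hAuj]
        exact E12_sa
      · rw [hAuo x h1 h2']
        exact one_sa
  have hfin_u : Function.update Au i
      (((h0 h2 : GL (Fin 2) F) : Matrix (Fin 2) (Fin 2) F) * Au i *
        (((h0 h2)⁻¹ : GL (Fin 2) F) : Matrix (Fin 2) (Fin 2) F) + Au i) =
      Function.update (Function.update (fun _ => (1 : Matrix (Fin 2) (Fin 2) F)) i D21) j E12 := by
    rw [hAui, coe_h0, coe_h0_inv, conj_E12 h2]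
    funext x
    by_cases h1 : x = i
    · rw [h1, Function.update_self, Function.update_of_ne hij, Function.update_self]
    · rw [Function.update_of_ne h1]
      by_cases h2' : x = j
      · rw [h2', Function.update_self, hAuj]
      · rw [Function.update_of_ne h2', Function.update_of_ne h1, hAuo x h1 h2']
  have hNu : T (Function.update Au i
      (((h0 h2 : GL (Fin 2) F) : Matrix (Fin 2) (Fin 2) F) * Au i *
        (((h0 h2)⁻¹ : GL (Fin 2) F) : Matrix (Fin 2) (Fin 2) F) + Au i)) *
      T (Function.update Au i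
      (((h0 h2 : GL (Fin 2) F) : Matrix (Fin 2) (Fin 2) F) * Au i *
        (((h0 h2)⁻¹ : GL (Fin 2) F) : Matrix (Fin 2) (Fin 2) F) + Au i)) = 0 := by
    apply T_sq_zero _ j
    rw [hfin_u, Function.update_self]
    exact E12_sq
  have hu2 := D.Theta_comm_mem i j l hij.symm (h0 h2) (by rw [coe_h0]; exact D21_symp h2) Au hsaU
    (by rw [hAuj]; exact E12_sq)
    (by intro a; rw [hAuo l hil.symm hjl.symm, Matrix.mul_one]; exact G2_alt a) hNu
  have eu : T (Function.update Au i
      (((h0 h2 : GL (Fin 2) F) : Matrix (Fin 2) (Fin 2) F) * Au i *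
        (((h0 h2)⁻¹ : GL (Fin 2) F) : Matrix (Fin 2) (Fin 2) F) + Au i)) =
      loc i D21 * loc j E12 := by
    rw [hfin_u, loc_mul_loc i j hij]
  rw [Ugl_congr h2 eu hNu (uN_sq i j hij D21 E12 E12_sq)] at hu2
  have hu1 : Ugl h2 (loc i D21 * loc j E12) (uN_sq i j hij D21 E12 E12_sq) ∈ normL sl2 t :=
    u_mem_normL sl2 h2 hP2 hP2' i j hij D21 E12 (D21_mem h2) E12_mem E12_sq
  have hu3 : Ugl h2 (loc i D21 * loc j E12) (uN_sq i j hij D21 E12 E12_sq) ∉
      Cfsg.Geo.tensorWreathStandard 2 t F := by
    intro hx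
    set a : Fin t → Fin 2 := Function.update (fun _ => 0) j 1 with ha
    set b' : Fin t → Fin 2 := Function.update (fun _ => 0) i 1 with hb'
    have hsw := col_swap_of_mem_standard hx a a b' i
    have hai : a i = 0 := by rw [ha, Function.update_of_ne hij]
    have haj : a j = 1 := by rw [ha, Function.update_self]
    have hbi : b' i = 1 := by rw [hb', Function.update_self]
    have hbj : b' j = 0 := by rw [hb', Function.update_of_ne hij.symm]
    have hM : ∀ b : Fin t → Fin 2, (∀ x, x ≠ i → x ≠ j → b x = a x) →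
        ((Ugl h2 (loc i D21 * loc j E12) (uN_sq i j hij D21 E12 E12_sq) : GL (Fin t → Fin 2) F) :
          Matrix (Fin t → Fin 2) (Fin t → Fin 2) F) b a =
        (1 : Matrix (Fin t → Fin 2) (Fin t → Fin 2) F) b a +
          (D21 : Matrix (Fin 2) (Fin 2) F) (b i) (a i) * (E12 : Matrix (Fin 2) (Fin 2) F) (b j) (a j) := by
      intro b hb
      rw [coe_Ugl, Matrix.add_apply, loc_mul_loc_apply i j hij D21 E12 b a hb]
    have e1 : ((Ugl h2 (loc i D21 * loc j E12) (uN_sq i j hij D21 E12 E12_sq) :
        GL (Fin t → Fin 2) F) : Matrix (Fin t → Fin 2) (Fin t → Fin 2) F) a a = 1 := by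
      rw [hM a (fun _ _ _ => rfl), Matrix.one_apply_eq, hai, haj]
      simp [D21, E12]
    have e2 : ((Ugl h2 (loc i D21 * loc j E12) (uN_sq i j hij D21 E12 E12_sq) :
        GL (Fin t → Fin 2) F) : Matrix (Fin t → Fin 2) (Fin t → Fin 2) F) b' a = 1 := by
      have hne : b' ≠ a := by
        intro h
        have := congrFun h j
        rw [hbj, haj] at this
        exact absurd this (by decide)
      rw [hM b' (fun x h1 h2' => by
        rw [hb', ha, Function.update_of_ne h1, Function.update_of_ne h2']),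
        Matrix.one_apply_ne hne, hai, haj, hbi, hbj]
      simp [D21, E12]
    have e3 : ((Ugl h2 (loc i D21 * loc j E12) (uN_sq i j hij D21 E12 E12_sq) :
        GL (Fin t → Fin 2) F) : Matrix (Fin t → Fin 2) (Fin t → Fin 2) F)
        (Function.update a i (b' i)) a = 0 := by
      have hne : Function.update a i (b' i) ≠ a := by
        intro h
        have := congrFun h i
        rw [Function.update_self, hbi, hai] at this
        exact absurd this (by decide)
      rw [hM _ (fun x h1 h2' => by rw [Function.update_of_ne h1]),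
        Matrix.one_apply_ne hne, Function.update_self, Function.update_of_ne hij.symm, hai, haj, hbi]
      simp [D21, E12]
    rw [e1, e2, e3, zero_mul, one_mul] at hsw
    exact one_ne_zero hsw
  -- the second element
  set Ag : Fin t → Matrix (Fin 2) (Fin 2) F :=
    fun x => if x = i then E12 else if x = j then E12 else if x = l then E12 else 1 with hAg
  have hAgi : Ag i = E12 := by simp [hAg]
  have hAgj : Ag j = E12 := by simp [hAg, hij.symm]
  have hAgl : Ag l = E12 := by simp [hAg, hil.symm, hjl.symm]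
  have hAgo : ∀ x, x ≠ i → x ≠ j → x ≠ l → Ag x = 1 := by
    intro x h1 h2' h3
    simp [hAg, h1, h2', h3]
  have hsaG : ∀ x, (Ag x)ᵀ * G2 = G2 * Ag x := by
    intro x
    by_cases h1 : x = i
    · rw [h1, hAgi]
      exact E12_sa
    · by_cases h2' : x = j
      · rw [h2', hAgj]
        exact E12_sa
      · by_cases h3 : x = l
        · rw [h3, hAgl]
          exact E12_sa
        · rw [hAgo x h1 h2' h3]
          exact one_sa
  set Bg : Fin t → Matrix (Fin 2) (Fin 2) F := Function.update Ag i
      (((h0 h2 : GL (Fin 2) F) : Matrix (Fin 2) (Fin 2) F) * Ag i *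
        (((h0 h2)⁻¹ : GL (Fin 2) F) : Matrix (Fin 2) (Fin 2) F) + Ag i) with hBg
  have hBgi : Bg i = D21 := by
    rw [hBg, Function.update_self, hAgi, coe_h0, coe_h0_inv, conj_E12 h2]
  have hBgo : ∀ x, x ≠ i → Bg x = Ag x := by
    intro x h1
    rw [hBg, Function.update_of_ne h1]
  have hBgj : Bg j * Bg j = 0 := by
    rw [hBgo j hij.symm, hAgj]
    exact E12_sq
  have hNg : T Bg * T Bg = 0 := T_sq_zero _ j hBgj
  have hg1 := D.Theta_comm_mem i j m hij.symm (h0 h2) (by rw [coe_h0]; exact D21_symp h2) Ag hsaG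
    (by rw [hAgj]; exact E12_sq)
    (by intro a; rw [hAgo m him.symm hjm.symm hlm.symm, Matrix.mul_one]; exact G2_alt a) hNg
  have hg2 : Ugl h2 (T Bg) hNg ∉ normL sl2 t := by
    set x : Fin t → Fin 2 := fun _ => 0 with hx
    set y : Fin t → Fin 2 := Function.update (Function.update (fun _ => 0) j 1) l 1 with hy
    have hyj : y j = 1 := by rw [hy, Function.update_of_ne hjl, Function.update_self]
    have hyl : y l = 1 := by rw [hy, Function.update_self]
    have hyo : ∀ z, z ≠ j → z ≠ l → y z = 0 := by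
      intro z h1 h2'
      rw [hy, Function.update_of_ne h2', Function.update_of_ne h1]
    apply not_mem_normL_of h2 sl2 (T Bg) hNg i E12 E12_mem x y j l hjl
    · rw [hyj]
      decide
    · rw [hyl]
      decide
    · rw [R_formula Bg i j hij.symm hBgj E12, hBgi, anti_D21_E12 h2, T_apply]
      have hone : ∏ z, (Function.update Bg i (1 : Matrix (Fin 2) (Fin 2) F)) z (x z) (y z) = 1 := by
        apply Finset.prod_eq_one
        intro z _
        by_cases h1 : z = i
        · rw [h1, Function.update_self, hyo i hij hil]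
          rfl
        · rw [Function.update_of_ne h1, hBgo z h1]
          by_cases h2' : z = j
          · rw [h2', hAgj, hyj]
            simp [E12, hx]
          · by_cases h3 : z = l
            · rw [h3, hAgl, hyl]
              simp [E12, hx]
            · rw [hAgo z h1 h2' h3, hyo z h2' h3]
              rfl
      rw [hone]
      exact one_ne_zero
  exact exists_between Q e P sl2
    (fun x hx hΘ => D.mem_normL_of_mem G2_ne sl2 (hP3 G2) hx hΘ) _ _ hu1 hu2 hu3 hg1 hg2

end Cfsg.Agent.Lib.Helper5.SpinWr.Two
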