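import Mathlib
import Cfsg.Prelude
import Cfsg.Agent.Lib.Helper5.SpinWr.TwoMain
import Cfsg.Agent.Lib.Helper5.SpinWr.FourMain
import Cfsg.Agent.Lib.Helper5.TensorFormSub
import Cfsg.Agent.Lib.Helper5.AltForm

set_option autoImplicit false
set_option linter.unusedSectionVars false
set_option linter.unusedVariables false
set_option linter.unusedSimpArgs false
set_option maxHeartbeats 1000000
open Cfsg

/-! Reduction to the standard alternating forms, and the final statement. -/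

namespace Cfsg.Agent.Lib.Helper5.SpinWr

open Matrix

section transfer
variable {F : Type*} [Field F] {ι : Type} [Fintype ι] [DecidableEq ι] {k t : ℕ}

theorem emb_mul_right (e : ι ≃ (Fin t → Fin k)) (P : GL ι F) (x₀ : GL (Fin t → Fin k) F)
    (v : (Fin t → Fin k) → F) :
    emb e (P * Cfsg.Geo.glReindex e.symm x₀) v =
      emb e P ((x₀ : Matrix (Fin t → Fin k) (Fin t → Fin k) F) *ᵥ v) := by
  unfold emb
  rw [Units.val_mul, ← Matrix.mulVec_mulVec]
  congr 1
  show ((x₀ : Matrix (Fin t → Fin k) (Fin t → Fin k) F).submatrix e e) *ᵥ (v ∘ e) = _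
  rw [Matrix.submatrix_mulVec_equiv]
  congr 2
  ext i
  simp

theorem Theta_mul_right (e : ι ≃ (Fin t → Fin k)) (P : GL ι F) (x₀ y : GL (Fin t → Fin k) F) :
    Theta e (P * Cfsg.Geo.glReindex e.symm x₀) y = Theta e P (x₀ * y * x₀⁻¹) := by
  unfold Theta
  rw [MulEquiv.trans_apply, MulEquiv.trans_apply, MulAut.conj_apply, MulAut.conj_apply, map_mul,
    map_mul, map_inv]
  group

theorem tws_mul_right (e : ι ≃ (Fin t → Fin k)) (P : GL ι F) (x₀ : GL (Fin t → Fin k) F)
    (hx₀ : x₀ ∈ Cfsg.Geo.tensorWreathStandard k t F) :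
    Cfsg.Geo.tensorWreathSubgroup k t e (P * Cfsg.Geo.glReindex e.symm x₀) =
      Cfsg.Geo.tensorWreathSubgroup k t e P := by
  ext g
  rw [mem_tws_iff, mem_tws_iff]
  constructor
  · rintro ⟨y, hy, rfl⟩
    exact ⟨x₀ * y * x₀⁻¹, Subgroup.mul_mem _ (Subgroup.mul_mem _ hx₀ hy) (Subgroup.inv_mem _ hx₀),
      (Theta_mul_right e P x₀ y).symm⟩
  · rintro ⟨y, hy, rfl⟩
    refine ⟨x₀⁻¹ * y * x₀, Subgroup.mul_mem _ (Subgroup.mul_mem _ (Subgroup.inv_mem _ hx₀) hy) hx₀,
      ?_⟩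
    rw [Theta_mul_right]
    congr 1
    group

theorem transfer (Q : (ι → F) → F) (e : ι ≃ (Fin t → Fin k)) (P : GL ι F)
    (G₁ G : Matrix (Fin k) (Fin k) F) (c : F) (S : GL (Fin k) F)
    (hS : (S : Matrix (Fin k) (Fin k) F)ᵀ * G₁ * (S : Matrix (Fin k) (Fin k) F) = G)
    (h2 : (2 : F) = 0) (hsmul : ∀ (r : F) (v : ι → F), Q (r • v) = r ^ 2 * Q v) (hc : c ≠ 0)
    (hpolar : ∀ x y : (Fin t → Fin k) → F,
      QuadraticMap.polar Q (emb e P x) (emb e P y) = c * bil (T (fun _ => G₁)) x y)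
    (hpure : ∀ xs : Fin t → (Fin k → F), Q (emb e P (pureV xs)) = 0)
    (halt : ∀ a, G a a = 0) (hsymm : Gᵀ = G) :
    ∃ P' : GL ι F, Dat Q e P' G c ∧
      Cfsg.Geo.tensorWreathSubgroup k t e P' = Cfsg.Geo.tensorWreathSubgroup k t e P := by
  refine ⟨P * Cfsg.Geo.glReindex e.symm (Tgl (fun _ => S)), ?_,
    tws_mul_right e P _ (Tgl_mem_standard _)⟩
  refine ⟨h2, hsmul, hc, ?_, ?_, halt, hsymm⟩
  · intro x y
    rw [emb_mul_right, emb_mul_right, hpolar, bil_mulVec, coe_Tgl, T_transpose, T_mul, T_mul]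
    simp only [hS]
  · intro xs
    rw [emb_mul_right, coe_Tgl, T_mulVec_pureV]
    exact hpure _

end transfer

section normal
variable {F : Type*} [Field F]

theorem form_eq_bil {k : ℕ} {f : (Fin k → F) → (Fin k → F) → F}
    (hf : Cfsg.Geo.IsBilinearForm f) (x y : Fin k → F) :
    f x y = bil (Cfsg.Geo.gramMatrix f) x y := by
  rw [bil_eq_sum, ← Cfsg.Agent.Lib.Helper5.TensorFormSub.formOfGram_gram hf]
  rfl

theorem neg_eq_self (h2 : (2 : F) = 0) (x : F) : -x = x := by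
  linear_combination (-x) * h2

theorem exists_S2 (h2 : (2 : F) = 0) {f : (Fin 2 → F) → (Fin 2 → F) → F}
    (hf : Cfsg.Geo.IsSymplecticForm f) :
    ∃ S : GL (Fin 2) F, (S : Matrix (Fin 2) (Fin 2) F)ᵀ * Cfsg.Geo.gramMatrix f *
      (S : Matrix (Fin 2) (Fin 2) F) = Two.G2 := by
  set G := Cfsg.Geo.gramMatrix f with hG
  have h00 : G 0 0 = 0 := hf.alternating _
  have h11 : G 1 1 = 0 := hf.alternating _
  have h10 : G 1 0 = G 0 1 := by
    have : G 1 0 = - G 0 1 := hf.skew _ _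
    rw [this, neg_eq_self h2]
  have hne : G 0 1 ≠ 0 := by
    intro h0
    have hz : G = 0 := by
      ext i j
      fin_cases i <;> fin_cases j <;> simp [h00, h11, h10, h0]
    obtain ⟨⟨x, hx⟩, _⟩ := hf.nondegenerate (Pi.single 0 1) (by
      intro h
      have := congrFun h 0
      simp at this)
    apply hx
    rw [form_eq_bil hf.bilinear, ← hG, hz]
    simp [bil]
  refine ⟨⟨!![1, 0; 0, (G 0 1)⁻¹], !![1, 0; 0, G 0 1], ?_, ?_⟩, ?_⟩
  · ext i j
    fin_cases i <;> fin_cases j <;> simp [Matrix.mul_apply, Fin.sum_univ_two, hne]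
  · ext i j
    fin_cases i <;> fin_cases j <;> simp [Matrix.mul_apply, Fin.sum_univ_two, hne]
  · ext i j
    fin_cases i <;> fin_cases j <;>
      simp [Two.G2, Matrix.mul_apply, Fin.sum_univ_two, h00, h11, h10, hne]

theorem exists_S4 (h2 : (2 : F) = 0) {f : (Fin 4 → F) → (Fin 4 → F) → F}
    (hf : Cfsg.Geo.IsSymplecticForm f) :
    ∃ S : GL (Fin 4) F, (S : Matrix (Fin 4) (Fin 4) F)ᵀ * Cfsg.Geo.gramMatrix f *
      (S : Matrix (Fin 4) (Fin 4) F) = Four.G4 := by
  set G := Cfsg.Geo.gramMatrix f with hG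
  set B : LinearMap.BilinForm F (Fin 4 → F) := Matrix.toBilin' G with hB
  have hBf : ∀ x y, B x y = f x y := by
    intro x y
    rw [hB, Matrix.toBilin'_apply', form_eq_bil hf.bilinear]
    rfl
  have hA : B.IsAlt := by
    intro x
    rw [hBf]
    exact hf.alternating x
  obtain ⟨m, k', b, h1, h2', h3, h4, h5, h6⟩ :=
    Cfsg.Agent.Lib.Helper5.AltForm.exists_darboux_basis B hA
  have hker : LinearMap.ker B = ⊥ := by
    rw [Submodule.eq_bot_iff]
    intro x hx
    by_contra hx0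
    obtain ⟨_, ⟨y, hy⟩⟩ := hf.nondegenerate x hx0
    apply hy
    rw [← hBf]
    rw [LinearMap.mem_ker] at hx
    rw [hx]
    rfl
  rw [hker, finrank_bot] at h6
  have hm : m = 2 := by
    rw [h6, Module.finrank_fintype_fun_eq_card, Fintype.card_fin] at h5
    omega
  subst hm
  subst h6
  set u : Fin 4 → (Fin 4 → F) := ![b (Sum.inl (Sum.inl 0)), b (Sum.inl (Sum.inr 0)),
    b (Sum.inl (Sum.inl 1)), b (Sum.inl (Sum.inr 1))] with hu
  have hskew : ∀ x y, B y x = B x y := by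
    intro x y
    rw [← hA.neg_eq x y, neg_eq_self h2]
  have hgram : ∀ a c : Fin 4, f (u a) (u c) = (Four.G4 : Matrix (Fin 4) (Fin 4) F) a c := by
    intro a c
    rw [← hBf]
    fin_cases a <;> fin_cases c <;>
      simp [hu, Four.G4, h1, h2', h3, hskew, hA.self_eq_zero]
  set S : Matrix (Fin 4) (Fin 4) F := Matrix.of fun a c => u c a with hS
  have hSG : Sᵀ * G * S = Four.G4 := by
    ext a c
    rw [← hgram a c, form_eq_bil hf.bilinear, ← hG, bil_eq_sum]
    simp only [Matrix.mul_apply, Matrix.transpose_apply, hS, Matrix.of_apply, Finset.sum_mul]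
    rw [Finset.sum_comm]
  have hleft : (Four.G4 * Sᵀ * G) * S = 1 := by
    rw [Matrix.mul_assoc, Matrix.mul_assoc, ← Matrix.mul_assoc Sᵀ, hSG, Four.G4_sq]
  exact ⟨⟨S, Four.G4 * Sᵀ * G, _root_.mul_eq_one_comm.mp hleft, hleft⟩, hSG⟩

end normal

section final
variable {F : Type*} [Field F] [Fintype F]

theorem two_eq_zero_of_not_odd (hchar : ¬ Odd (Fintype.card F)) : (2 : F) = 0 := by
  have hc : ringChar F = 2 := by
    apply FiniteField.even_card_iff_char_two.mpr
    rcases Nat.even_or_odd (Fintype.card F) with h | h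
    · exact Nat.even_iff.mp h
    · exact absurd h hchar
  have := CharP.cast_eq_zero F (ringChar F)
  rw [hc] at this
  exact_mod_cast this

theorem not_maximal {n : ℕ} (hn : 13 ≤ n) (heven : Even n) (Q : (Fin n → F) → F)
    (hQ : Cfsg.Geo.IsNondegenerateQuadraticForm Q) (hchar : ¬ Odd (Fintype.card F)) (k t : ℕ)
    (ht : 2 ≤ t) (hk : k ≤ 4) (e : (Fin n) ≃ (Fin t → Fin k)) (P : GL (Fin n) F)
    (f₁ : (Fin k → F) → (Fin k → F) → F) (hf₁ : Cfsg.Geo.IsSymplecticForm f₁)
    (hT : Cfsg.Geo.IsTensorPowerFormStructure id (QuadraticMap.polar Q) f₁ e P)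
    (hpure : ∀ xs : Fin t → (Fin k → F),
      Q (Matrix.mulVec (P : Matrix (Fin n) (Fin n) F)
        ((fun a : Fin t → Fin k => ∏ i, xs i (a i)) ∘ e)) = 0) :
    ∃ K : Subgroup (GL (Fin n) F),
      Cfsg.Geo.tensorWreathSubgroup k t e P ⊓ Cfsg.Geo.omegaGL Q < K ∧
        K < Cfsg.Geo.omegaGL Q := by
  have h2 : (2 : F) = 0 := two_eq_zero_of_not_odd hchar
  have hcard : n = k ^ t := by
    have := Fintype.card_congr e
    rw [Fintype.card_fin, Fintype.card_fun, Fintype.card_fin, Fintype.card_fin] at this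
    exact this
  obtain ⟨c, hc, hT'⟩ := hT
  have hpolar : ∀ x y : (Fin t → Fin k) → F,
      QuadraticMap.polar Q (emb e P x) (emb e P y) =
        c * bil (T (fun _ => Cfsg.Geo.gramMatrix f₁)) x y := by
    intro x y
    rw [bil_eq_sum]
    exact hT' x y
  have hpure' : ∀ xs : Fin t → (Fin k → F), Q (emb e P (pureV xs)) = 0 := hpure
  interval_cases k
  · exfalso
    rw [zero_pow (by omega)] at hcard
    omega
  · exfalso
    rw [one_pow] at hcard
    omega
  · have ht4 : 4 ≤ t := by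
      by_contra hlt
      have : t = 2 ∨ t = 3 := by omega
      rcases this with rfl | rfl <;> omega
    obtain ⟨S, hS⟩ := exists_S2 h2 hf₁
    obtain ⟨P', hD, htws⟩ := transfer Q e P _ Two.G2 c S hS h2 hQ.smul hc hpolar hpure'
      Two.G2_alt Two.G2_symm
    rw [← htws]
    exact Two.core ht4 Q e P' c hD
  · exfalso
    have hodd : Odd (3 ^ t) := Odd.pow (by decide)
    rw [← hcard] at hodd
    exact (Nat.not_even_iff_odd.mpr hodd) heven
  · obtain ⟨S, hS⟩ := exists_S4 h2 hf₁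
    obtain ⟨P', hD, htws⟩ := transfer Q e P _ Four.G4 c S hS h2 hQ.smul hc hpolar hpure'
      Four.G4_alt Four.G4_symm
    rw [← htws]
    exact Four.core ht Q e P' c hD

end final

end Cfsg.Agent.Lib.Helper5.SpinWr
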